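import Groth.Prelude.Def_CAlgX
import Groth.Agent.CalgA.RegBasic
import Mathlib.RingTheory.Regular.RegularSequence
import Mathlib.RingTheory.MvPolynomial.Homogeneous
import Mathlib.RingTheory.Filtration

/-!
# Quasi-regular sequences in the Jacobson radical of a Noetherian ring are regular
-/

set_option autoImplicit false
universe u

open MvPolynomial

namespace K104.QuasiReg

variable {R : Type u} [CommRing R] {c : ℕ}

/-- A homogeneous polynomial with coefficients in `J = (f)` takes at `f` a value in `J^{n+1}`. -/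
lemma eval_mem_pow_succ (f : Fin c → R) (n : ℕ) (P : MvPolynomial (Fin c) R)
    (hP : P.IsHomogeneous n) (hc : ∀ d, P.coeff d ∈ Ideal.span (Set.range f)) :
    eval f P ∈ Ideal.span (Set.range f) ^ (n + 1) := by
  rw [eval_eq]
  refine Ideal.sum_mem _ fun d hd => ?_
  have h1 : (∏ i ∈ d.support, f i ^ d i) ∈ Ideal.span (Set.range f) ^ n := by
    refine (Ideal.mem_span_pow_iff_exists_isHomogeneous f _).2 ⟨monomial d 1, ?_, ?_⟩
    · refine isHomogeneous_monomial _ ?_
      exact (DFunLike.congr_fun (Finsupp.degree_eq_weight_one (R := ℕ)) d).trans (hP (mem_support_iff.1 hd))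
    · rw [eval_monomial, one_mul]
      rfl
  rw [pow_succ']
  exact Ideal.mul_mem_mul (hc d) h1

/-- If `f` is quasi-regular and `f k * z ∈ J^{m+1}`, then `z ∈ J^m`. -/
lemma mem_pow_of_mul_mem {f : Fin c → R} (hf : CAlgX.IsQuasiRegular f) (k : Fin c) (m : ℕ) (z : R)
    (hz : f k * z ∈ Ideal.span (Set.range f) ^ (m + 1)) : z ∈ Ideal.span (Set.range f) ^ m := by
  induction m with
  | zero => simp
  | succ m ih =>
    have h1 := ih (Ideal.pow_le_pow_right (Nat.le_succ _) hz)
    obtain ⟨P, hP, rfl⟩ := (Ideal.mem_span_pow_iff_exists_isHomogeneous f _).1 h1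
    refine eval_mem_pow_succ f m P hP fun d => ?_
    have h2 : (X k * P).IsHomogeneous (m + 1) := by
      rw [add_comm]
      exact (isHomogeneous_X R k).mul hP
    have h3 := hf (m + 1) (X k * P) h2 (by rwa [map_mul, eval_X]) (Finsupp.single k 1 + d)
    rwa [coeff_X_mul] at h3

/-- The first term of a quasi-regular sequence is regular if `⋂ J^n = 0`. -/
lemma isSMulRegular {f : Fin c → R} (hf : CAlgX.IsQuasiRegular f) (k : Fin c)
    (hJ : (⨅ n : ℕ, Ideal.span (Set.range f) ^ n) = ⊥) : IsSMulRegular R (f k) := by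
  rw [isSMulRegular_iff_right_eq_zero_of_smul]
  intro z hz
  rw [smul_eq_mul] at hz
  have : z ∈ ⨅ n : ℕ, Ideal.span (Set.range f) ^ n := by
    rw [Ideal.mem_iInf]
    intro n
    exact mem_pow_of_mul_mem hf k n z (by rw [hz]; exact Ideal.zero_mem _)
  rwa [hJ, Ideal.mem_bot] at this

/-- Lifting homogeneous polynomials along a surjection. -/
lemma exists_lift_homogeneous {S : Type u} [CommRing S] (φ : R →+* S) (hφ : Function.Surjective φ)
    {n : ℕ} {P : MvPolynomial (Fin c) S} (hP : P.IsHomogeneous n) :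
    ∃ Q : MvPolynomial (Fin c) R, Q.IsHomogeneous n ∧ map φ Q = P := by
  obtain ⟨Q, hQ⟩ := map_surjective φ hφ P
  refine ⟨homogeneousComponent n Q, homogeneousComponent_isHomogeneous n Q, ?_⟩
  ext d
  rw [coeff_map, coeff_homogeneousComponent]
  split_ifs with h
  · rw [← hQ, coeff_map]
  · rw [map_zero]
    by_contra hne
    exact h ((DFunLike.congr_fun (Finsupp.degree_eq_weight_one (R := ℕ)) d).trans (hP (Ne.symm hne)))

/-- The images of the remaining terms of a quasi-regular sequence modulo the first one. -/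
lemma isQuasiRegular_quotient {f : Fin (c + 1) → R} (hf : CAlgX.IsQuasiRegular f) :
    CAlgX.IsQuasiRegular (fun i : Fin c => Ideal.Quotient.mk (Ideal.span {f 0}) (f i.succ)) := by
  set J := Ideal.span (Set.range f) with hJ
  set π := Ideal.Quotient.mk (Ideal.span {f 0}) with hπ
  have h0 : f 0 ∈ J := Ideal.subset_span ⟨0, rfl⟩
  have hmap : Ideal.span (Set.range fun i : Fin c => π (f i.succ)) = J.map π := by
    rw [hJ, Ideal.map_span]
    apply le_antisymm
    · refine Ideal.span_mono ?_
      rintro _ ⟨i, rfl⟩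
      exact ⟨f i.succ, ⟨i.succ, rfl⟩, rfl⟩
    · rw [Ideal.span_le]
      rintro _ ⟨_, ⟨i, rfl⟩, rfl⟩
      refine Fin.cases ?_ (fun j => ?_) i
      · have : π (f 0) = 0 := Ideal.Quotient.eq_zero_iff_mem.2 (Ideal.mem_span_singleton_self _)
        rw [this]
        exact Ideal.zero_mem _
      · exact Ideal.subset_span ⟨j, rfl⟩
  intro n P hP hev d
  rw [hmap] at hev ⊢
  obtain ⟨Q, hQ, rfl⟩ := exists_lift_homogeneous π Ideal.Quotient.mk_surjective hP
  rw [coeff_map]
  refine Ideal.mem_map_of_mem _ ?_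
  have hev1 : π (eval (fun i : Fin c => f i.succ) Q) ∈ (J ^ (n + 1)).map π := by
    rw [Ideal.map_pow]
    convert hev using 1
    rw [eval_map, eval₂_comp]
    rfl
  obtain ⟨y, hy, hy'⟩ := (Ideal.mem_map_iff_of_surjective π Ideal.Quotient.mk_surjective).1 hev1
  have h1 : eval (fun i : Fin c => f i.succ) Q - y ∈ Ideal.span {f 0} := by
    rw [← Ideal.Quotient.eq_zero_iff_mem, map_sub, sub_eq_zero]
    exact hy'.symm
  obtain ⟨z, hz⟩ := Ideal.mem_span_singleton.1 h1
  have hren : eval f (rename Fin.succ Q) = eval (fun i : Fin c => f i.succ) Q := by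
    rw [eval_rename]
    rfl
  have hQJ : eval (fun i : Fin c => f i.succ) Q ∈ J ^ n := by
    rw [← hren]
    exact (Ideal.mem_span_pow_iff_exists_isHomogeneous f _).2
      ⟨rename Fin.succ Q, hQ.rename_isHomogeneous, rfl⟩
  cases n with
  | zero =>
    have hd := hf 0 (rename Fin.succ Q - C 0) (by
      rw [C_0, sub_zero]; exact hQ.rename_isHomogeneous) (by
      rw [C_0, sub_zero, hren]
      have : eval (fun i : Fin c => f i.succ) Q = y + f 0 * z := by rw [← hz]; ring
      rw [this, zero_add, pow_one]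
      rw [zero_add, pow_one] at hy
      exact Ideal.add_mem _ hy (Ideal.mul_mem_right _ _ h0)) (d.mapDomain Fin.succ)
    rwa [C_0, sub_zero, coeff_rename_mapDomain _ (Fin.succ_injective c)] at hd
  | succ n =>
    have hz2 : f 0 * z ∈ J ^ (n + 1) := by
      rw [← hz]
      exact Ideal.sub_mem _ hQJ (Ideal.pow_le_pow_right (Nat.le_succ _) hy)
    have hz3 : z ∈ J ^ n := mem_pow_of_mul_mem hf 0 n z hz2
    obtain ⟨T, hT, hTz⟩ := (Ideal.mem_span_pow_iff_exists_isHomogeneous f _).1 hz3
    have hXT : (X 0 * T).IsHomogeneous (n + 1) := by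
      rw [add_comm n 1]
      exact (isHomogeneous_X R 0).mul hT
    have hd := hf (n + 1) (rename Fin.succ Q - X 0 * T) (hQ.rename_isHomogeneous.sub hXT) (by
      rw [map_sub, map_mul, eval_X, hTz, hren, ← hz, sub_sub_cancel]
      exact hy) (d.mapDomain Fin.succ)
    rw [coeff_sub, coeff_rename_mapDomain _ (Fin.succ_injective c), coeff_X_mul', if_neg,
      sub_zero] at hd
    · exact hd
    · rw [Finsupp.mem_support_iff, not_not]
      refine Finsupp.mapDomain_of_notMem_range _ _ ?_
      rintro ⟨i, hi⟩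
      exact Fin.succ_ne_zero i hi

/-- In a Noetherian ring, a quasi-regular sequence in the Jacobson radical is regular. -/
theorem isWeaklyRegular_of_isQuasiRegular (c : ℕ) : ∀ {A : Type u} [CommRing A] [IsNoetherianRing A]
    (f : Fin c → A) (_ : ∀ i, f i ∈ Ring.jacobson A) (_ : CAlgX.IsQuasiRegular f),
    RingTheory.Sequence.IsWeaklyRegular A (List.ofFn f) := by
  induction c with
  | zero =>
    intro A _ _ f _ _
    rw [List.ofFn_zero]
    exact RingTheory.Sequence.IsWeaklyRegular.nil A A
  | succ c ih =>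
    intro A _ _ f hf hq
    rw [List.ofFn_succ]
    have hJ : Ideal.span (Set.range f) ≤ Ideal.jacobson ⊥ := by
      rw [Ideal.span_le]
      rintro _ ⟨i, rfl⟩
      rw [Ideal.jacobson_bot]
      exact hf i
    refine RingTheory.Sequence.IsWeaklyRegular.cons' (isSMulRegular hq 0 ?_) ?_
    · have h1 := Ideal.iInf_pow_smul_eq_bot_of_le_jacobson (M := A) _ hJ
      simpa using h1
    · rw [LinearEquiv.isWeaklyRegular_congr
        (Groth.Agent.CalgA.RegBasic.quotSMulTopSelfEquiv (f 0))]
      rw [List.map_ofFn]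
      refine ih _ (fun i => ?_) (isQuasiRegular_quotient hq)
      have h2 := hf i.succ
      rw [← Ideal.jacobson_bot, Ideal.mem_jacobson_bot] at h2 ⊢
      intro y
      obtain ⟨y, rfl⟩ := Ideal.Quotient.mk_surjective y
      have := (h2 y).map (Ideal.Quotient.mk (Ideal.span {f 0}))
      rwa [map_add, map_mul, map_one] at this

end K104.QuasiReg
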