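import Groth.Prelude.Def_Exal2
import Mathlib.RingTheory.Derivation.Basic

/-!
# Extensions of commutative algebras: basic API

* `bijective_of_hom`, `equivOfHom`: a morphism of extensions is an equivalence;
* `nonempty_equiv_of_conormalMap_eq`, `exists_conormalMap_eq`: classification of the `B`-extensions of `B ⧸ J`.
-/

set_option autoImplicit false
universe u v w

namespace K104.ExalA

open Exal Exal.Ext

section Basic

variable {A : Type u} {B L : Type v} [CommRing A] [CommRing B] [Algebra A B] [AddCommGroup L]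
  [Module B L]

lemma proj_incl (X : Ext A B L) (z : L) : X.proj (X.incl z) = 0 :=
  (X.isExtension.exact _).2 ⟨z, rfl⟩

lemma mul_incl (X : Ext A B L) (x : X.E) (z : L) : x * X.incl z = X.incl (X.proj x • z) :=
  X.isExtension.mul_incl x z

lemma incl_mul (X : Ext A B L) (x : X.E) (z : L) : X.incl z * x = X.incl (X.proj x • z) := by
  rw [mul_comm, mul_incl]

lemma incl_mul_incl (X : Ext A B L) (z z' : L) : X.incl z * X.incl z' = 0 := by
  rw [mul_incl, proj_incl, zero_smul, map_zero]

lemma incl_inj (X : Ext A B L) {z z' : L} : X.incl z = X.incl z' ↔ z = z' :=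
  X.isExtension.incl_injective.eq_iff

lemma exists_incl (X : Ext A B L) {x : X.E} (hx : X.proj x = 0) : ∃ z, X.incl z = x :=
  (X.isExtension.exact x).1 hx

lemma exists_incl_of_proj_eq (X : Ext A B L) {x y : X.E} (hx : X.proj x = X.proj y) :
    ∃ z, x = y + X.incl z := by
  obtain ⟨z, hz⟩ := exists_incl X (x := x - y) (by rw [map_sub, hx, sub_self])
  exact ⟨z, by rw [hz]; ring⟩

lemma kerLift_incl (X : Ext A B L) (z : L) (h : X.proj (X.incl z) = 0) :
    X.kerLift (X.incl z) h = z := by
  rw [← incl_inj X, X.incl_kerLift]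

lemma bijective_of_hom (X Y : Ext A B L) (φ : X.E →ₐ[A] Y.E) (hp : ∀ x, Y.proj (φ x) = X.proj x)
    (hi : ∀ z, φ (X.incl z) = Y.incl z) : Function.Bijective φ := by
  constructor
  · rw [injective_iff_map_eq_zero]
    intro x hx
    obtain ⟨z, rfl⟩ := exists_incl X (x := x) (by rw [← hp, hx, map_zero])
    rw [hi, ← map_zero Y.incl, incl_inj] at hx
    rw [hx, map_zero]
  · intro y
    obtain ⟨x, hx⟩ := X.isExtension.proj_surjective (Y.proj y)
    obtain ⟨z, hz⟩ := exists_incl_of_proj_eq Y (x := y) (y := φ x) (by rw [hp, hx])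
    exact ⟨x + X.incl z, by rw [map_add, hi, hz]⟩

/-- A morphism of extensions is an equivalence. -/
noncomputable def equivOfHom (X Y : Ext A B L) (φ : X.E →ₐ[A] Y.E)
    (hp : ∀ x, Y.proj (φ x) = X.proj x) (hi : ∀ z, φ (X.incl z) = Y.incl z) : X.Equiv Y where
  toAlgEquiv := AlgEquiv.ofBijective φ (bijective_of_hom X Y φ hp hi)
  proj_apply := hp
  apply_incl := hi

end Basic

section Conormal

variable {B : Type u} [CommRing B] (J : Ideal B) {M : Type u} [AddCommGroup M]
  [Module (B ⧸ J) M] [Module B M] [IsScalarTower B (B ⧸ J) M]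

lemma incl_conormalMap (X : Ext B (B ⧸ J) M) (j : J) :
    X.incl (X.conormalMap J (J.toCotangent j)) = algebraMap B X.E j :=
  X.incl_kerLift _ (X.proj_algebraMap_eq_zero J j)

variable {J}

/-- The graph of the equivalence between two extensions with the same conormal map. -/
def graph (X Y : Ext B (B ⧸ J) M) : Subalgebra B (X.E × Y.E) where
  carrier := {p | ∃ (b : B) (m : M), p.1 = algebraMap B X.E b + X.incl m ∧
    p.2 = algebraMap B Y.E b + Y.incl m}
  mul_mem' := by
    rintro ⟨x, y⟩ ⟨x', y'⟩ ⟨b, m, hx, hy⟩ ⟨b', m', hx', hy'⟩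
    have h1 : ∀ (Z : Ext B (B ⧸ J) M), (algebraMap B Z.E b + Z.incl m) *
        (algebraMap B Z.E b' + Z.incl m') =
        algebraMap B Z.E (b * b') + Z.incl (b • m' + b' • m) := by
      intro Z
      rw [add_mul, mul_add, mul_add, incl_mul_incl, add_zero, mul_incl, incl_mul, map_mul,
        AlgHom.commutes, AlgHom.commutes, algebraMap_smul, algebraMap_smul, map_add, add_assoc]
    refine ⟨b * b', b • m' + b' • m, ?_, ?_⟩
    · change x * x' = _
      rw [← h1 X]
      exact congrArg₂ _ hx hx'
    · change y * y' = _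
      rw [← h1 Y]
      exact congrArg₂ _ hy hy'
  add_mem' := by
    rintro ⟨x, y⟩ ⟨x', y'⟩ ⟨b, m, hx, hy⟩ ⟨b', m', hx', hy'⟩
    refine ⟨b + b', m + m', ?_, ?_⟩
    · change x + x' = _
      change x = _ at hx
      change x' = _ at hx'
      rw [hx, hx', map_add, map_add]
      ring
    · change y + y' = _
      change y = _ at hy
      change y' = _ at hy'
      rw [hy, hy', map_add, map_add]
      ring
  algebraMap_mem' := fun b => ⟨b, 0, by simp, by simp⟩

lemma graph_fst_bijective (X Y : Ext B (B ⧸ J) M) (h : X.conormalMap J = Y.conormalMap J) :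
    Function.Bijective ((AlgHom.fst B X.E Y.E).comp (graph X Y).val) := by
  constructor
  · rw [injective_iff_map_eq_zero]
    rintro ⟨⟨x, y⟩, b, m, hx, hy⟩ h0
    change x = 0 at h0
    change x = _ at hx
    change y = _ at hy
    rw [h0] at hx
    have hb : b ∈ J := by
      have := congrArg X.proj hx
      rw [map_zero, map_add, proj_incl, add_zero, AlgHom.commutes, Ideal.Quotient.algebraMap_eq] at this
      exact Ideal.Quotient.eq_zero_iff_mem.1 this.symm
    have h1 : X.conormalMap J (J.toCotangent ⟨b, hb⟩) + m = 0 := by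
      rw [← incl_inj X, map_add, incl_conormalMap, map_zero]
      exact hx.symm
    have h2 : y = 0 := by
      rw [hy, ← incl_conormalMap J Y ⟨b, hb⟩, ← map_add, ← h, h1, map_zero]
    apply Subtype.ext
    exact Prod.ext h0 h2
  · intro x
    obtain ⟨b, hb⟩ := Ideal.Quotient.mk_surjective (X.proj x)
    obtain ⟨m, hm⟩ := exists_incl_of_proj_eq X (x := x) (y := algebraMap B X.E b) (by
      rw [AlgHom.commutes, Ideal.Quotient.algebraMap_eq, hb])
    exact ⟨⟨(x, algebraMap B Y.E b + Y.incl m), b, m, hm, rfl⟩, rfl⟩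

/-- Two extensions of `B ⧸ J` with the same conormal map are equivalent. -/
theorem nonempty_equiv_of_conormalMap_eq (X Y : Ext B (B ⧸ J) M)
    (h : X.conormalMap J = Y.conormalMap J) : Nonempty (X.Equiv Y) := by
  let e := AlgEquiv.ofBijective _ (graph_fst_bijective X Y h)
  have he : ∀ x (b : B) (m : M), x = algebraMap B X.E b + X.incl m →
      (((e.symm x : graph X Y) : X.E × Y.E)).2 = algebraMap B Y.E b + Y.incl m := by
    intro x b m hx
    have : e.symm x = ⟨(x, algebraMap B Y.E b + Y.incl m), b, m, hx, rfl⟩ := by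
      rw [AlgEquiv.symm_apply_eq]
      rfl
    rw [this]
  refine ⟨equivOfHom X Y (((AlgHom.snd B X.E Y.E).comp (graph X Y).val).comp e.symm.toAlgHom)
    (fun x => ?_) (fun z => ?_)⟩
  · obtain ⟨b, hb⟩ := Ideal.Quotient.mk_surjective (X.proj x)
    obtain ⟨m, hm⟩ := exists_incl_of_proj_eq X (x := x) (y := algebraMap B X.E b) (by
      rw [AlgHom.commutes, Ideal.Quotient.algebraMap_eq, hb])
    have := he x b m hm
    change Y.proj (((e.symm x : graph X Y) : X.E × Y.E)).2 = _
    rw [this, map_add, proj_incl, AlgHom.commutes, add_zero, ← hb, Ideal.Quotient.algebraMap_eq]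
  · have := he (X.incl z) 0 z (by rw [map_zero, zero_add])
    change (((e.symm (X.incl z) : graph X Y) : X.E × Y.E)).2 = _
    rw [this, map_zero, zero_add]

end Conormal

section Construct

attribute [local instance] opModule isCentralScalar_opModule

variable {B : Type u} [CommRing B] (J : Ideal B) {M : Type u} [AddCommGroup M]
  [Module (B ⧸ J) M] [Module B M] [IsScalarTower B (B ⧸ J) M] (w : J.Cotangent →ₗ[B] M)

/-- The ideal `{(j, - w j)}` of `B ⊕ M`. -/
def pushIdeal : Ideal (TrivSqZeroExt B M) where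
  carrier := {x | ∃ j : J, x.fst = j ∧ x.snd = - w (J.toCotangent j)}
  add_mem' := by
    rintro x y ⟨j, hj, hj'⟩ ⟨k, hk, hk'⟩
    refine ⟨j + k, ?_, ?_⟩
    · rw [TrivSqZeroExt.fst_add, hj, hk, Submodule.coe_add]
    · rw [TrivSqZeroExt.snd_add, hj', hk', map_add, map_add]
      abel
  zero_mem' := ⟨0, by simp, by simp⟩
  smul_mem' := by
    rintro x y ⟨j, hj, hj'⟩
    refine ⟨x.fst • j, ?_, ?_⟩
    · rw [smul_eq_mul, TrivSqZeroExt.fst_mul, hj]
      rfl
    · rw [smul_eq_mul, TrivSqZeroExt.snd_mul, hj', map_smul, map_smul, hj]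
      have : MulOpposite.op (j : B) • x.snd = (0 : M) := by
        change (j : B) • x.snd = 0
        rw [← algebraMap_smul (B ⧸ J), Ideal.Quotient.algebraMap_eq,
          Ideal.Quotient.eq_zero_iff_mem.2 j.2, zero_smul]
      rw [this, add_zero, smul_neg]

/-- The `B`-extension of `B ⧸ J` deduced from a linear map `J/J² → M`. -/
noncomputable def push : Ext B (B ⧸ J) M where
  E := TrivSqZeroExt B M ⧸ pushIdeal J w
  proj := Ideal.Quotient.liftₐ (pushIdeal J w)
    ((Ideal.Quotient.mkₐ B J).comp (TrivSqZeroExt.fstHom B B M)) (by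
      rintro x ⟨j, hj, -⟩
      change Ideal.Quotient.mk J x.fst = 0
      rw [hj]
      exact Ideal.Quotient.eq_zero_iff_mem.2 j.2)
  incl := (Ideal.Quotient.mk (pushIdeal J w)).toAddMonoidHom.comp
    (TrivSqZeroExt.inrHom B M).toAddMonoidHom
  isExtension :=
    { proj_surjective := fun b => by
        obtain ⟨b, rfl⟩ := Ideal.Quotient.mk_surjective b
        exact ⟨Ideal.Quotient.mk _ (TrivSqZeroExt.inl b), rfl⟩
      incl_injective := by
        rw [injective_iff_map_eq_zero]
        intro m hm
        obtain ⟨j, hj, hj'⟩ := Ideal.Quotient.eq_zero_iff_mem.1 hm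
        have : j = 0 := Subtype.ext hj.symm
        rw [this, map_zero, map_zero, neg_zero] at hj'
        exact hj'
      exact := fun x => by
        obtain ⟨x, rfl⟩ := Ideal.Quotient.mk_surjective x
        constructor
        · intro hx
          have hx' : x.fst ∈ J := Ideal.Quotient.eq_zero_iff_mem.1 hx
          refine ⟨x.snd + w (J.toCotangent ⟨x.fst, hx'⟩), ?_⟩
          have hmem : x - TrivSqZeroExt.inr (x.snd + w (J.toCotangent ⟨x.fst, hx'⟩)) ∈
              pushIdeal J w := by
            refine ⟨⟨x.fst, hx'⟩, ?_, ?_⟩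
            · rw [TrivSqZeroExt.fst_sub]
              change x.fst - 0 = x.fst
              rw [sub_zero]
            · rw [TrivSqZeroExt.snd_sub]
              change x.snd - (x.snd + _) = _
              abel
          exact (Ideal.Quotient.eq.2 hmem).symm
        · rintro ⟨m, hm⟩
          rw [← hm]
          change Ideal.Quotient.mk J 0 = 0
          rw [map_zero]
      mul_incl := fun x m => by
        obtain ⟨x, rfl⟩ := Ideal.Quotient.mk_surjective x
        change Ideal.Quotient.mk _ x * Ideal.Quotient.mk _ (TrivSqZeroExt.inr m) =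
          Ideal.Quotient.mk _ (TrivSqZeroExt.inr (Ideal.Quotient.mk J x.fst • m))
        rw [← map_mul]
        congr 1
        refine TrivSqZeroExt.ext ?_ ?_
        · change x.fst * 0 = 0
          exact mul_zero _
        · change x.fst • m + MulOpposite.op (0 : B) • x.snd = _
          rw [MulOpposite.op_zero, zero_smul, add_zero, ← Ideal.Quotient.algebraMap_eq,
            algebraMap_smul]
          rfl }

/-- Every linear map `J/J² → M` is the conormal map of an extension. -/
theorem exists_conormalMap_eq : ∃ X : Ext B (B ⧸ J) M, X.conormalMap J = w := by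
  refine ⟨push J w, ?_⟩
  refine LinearMap.ext fun z => ?_
  obtain ⟨j, rfl⟩ := J.toCotangent_surjective z
  rw [← incl_inj (push J w), incl_conormalMap]
  change Ideal.Quotient.mk (pushIdeal J w) (TrivSqZeroExt.inl (j : B)) =
    Ideal.Quotient.mk (pushIdeal J w) (TrivSqZeroExt.inr (w (J.toCotangent j)))
  refine Ideal.Quotient.eq.2 ⟨j, ?_, ?_⟩
  · rw [TrivSqZeroExt.fst_sub]
    change (j : B) - 0 = j
    rw [sub_zero]
  · rw [TrivSqZeroExt.snd_sub]
    change (0 : M) - _ = _
    rw [zero_sub]
    rfl

end Construct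

end K104.ExalA
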