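import Groth.Agent.EGA41.K104.ExalA

/-!
# Extensions trivial over a smaller ring and derivations

* `secDer`: the derivation attached to a section over `A` of a `B`-extension;
* `ofDerEquiv`: an `A`-trivial extension is the one attached to a derivation.
-/

set_option autoImplicit false
set_option linter.unusedSectionVars false
universe u v w

namespace K104.ExalB

open Exal Exal.Ext ExalA

section Sec

variable {A : Type u} {B C L : Type v} [CommRing A] [CommRing B] [CommRing C]
  [Algebra A B] [Algebra B C] [Algebra A C] [IsScalarTower A B C] [AddCommGroup L] [Module C L]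

/-- `s` is a section over `A` of the `B`-extension `X`. -/
structure IsSec (A : Type u) [CommRing A] [Algebra A B] [Algebra A C] (X : Ext B C L)
    (s : C →+* X.E) : Prop where
  proj : ∀ c, X.proj (s c) = c
  commutes : ∀ a : A, s (algebraMap A C a) = algebraMap B X.E (algebraMap A B a)

lemma isTrivialOver_iff (X : Ext B C L) : X.IsTrivialOver A ↔ ∃ s : C →+* X.E, IsSec A X s := by
  constructor
  · rintro ⟨s, hs⟩
    exact ⟨s.toRingHom, hs, fun a => s.commutes a⟩
  · rintro ⟨s, hs⟩
    exact ⟨{ toRingHom := s, commutes' := fun a => hs.commutes a }, hs.proj⟩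

variable {X : Ext B C L} {s : C →+* X.E}

/-- The component in `L` of an element of the middle ring, for a given section. -/
noncomputable def IsSec.snd (hs : IsSec A X s) (x : X.E) : L :=
  X.kerLift (x - s (X.proj x)) (by rw [map_sub, hs.proj, sub_self])

lemma IsSec.incl_snd (hs : IsSec A X s) (x : X.E) : X.incl (hs.snd x) = x - s (X.proj x) :=
  X.incl_kerLift _ _

lemma IsSec.snd_incl (hs : IsSec A X s) (z : L) : hs.snd (X.incl z) = z := by
  rw [← incl_inj X, hs.incl_snd, proj_incl, map_zero, sub_zero]

lemma IsSec.snd_sec (hs : IsSec A X s) (c : C) : hs.snd (s c) = 0 := by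
  rw [← incl_inj X, hs.incl_snd, hs.proj, sub_self, map_zero]

lemma IsSec.snd_add (hs : IsSec A X s) (x y : X.E) : hs.snd (x + y) = hs.snd x + hs.snd y := by
  rw [← incl_inj X, map_add, hs.incl_snd, hs.incl_snd, hs.incl_snd, map_add, map_add]
  ring

lemma IsSec.snd_mul (hs : IsSec A X s) (x y : X.E) :
    hs.snd (x * y) = X.proj x • hs.snd y + X.proj y • hs.snd x := by
  rw [← incl_inj X, map_add, hs.incl_snd, ← mul_incl, hs.incl_snd]
  have h : X.incl (X.proj y • hs.snd x) = (x - s (X.proj x)) * s (X.proj y) := by
    rw [← hs.incl_snd, incl_mul, hs.proj]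
  rw [h, map_mul, map_mul]
  ring

lemma IsSec.snd_algebraMap (hs : IsSec A X s) (a : A) :
    hs.snd (algebraMap B X.E (algebraMap A B a)) = 0 := by
  rw [← hs.commutes, hs.snd_sec]

variable [Module B L] [IsScalarTower B C L] [Module A L] [IsScalarTower A B L] [IsScalarTower A C L]

/-- The derivation `b ↦ b - s b` attached to a section over `A` of a `B`-extension. -/
noncomputable def secDer (hs : IsSec A X s) : Derivation A B L :=
  Derivation.mk'
    { toFun := fun b => hs.snd (algebraMap B X.E b)
      map_add' := fun b b' => by rw [map_add, hs.snd_add]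
      map_smul' := fun a b => by
        rw [Algebra.smul_def, map_mul, hs.snd_mul, hs.snd_algebraMap, smul_zero, add_zero,
          AlgHom.commutes, ← IsScalarTower.algebraMap_apply, algebraMap_smul]
        rfl }
    (fun b b' => by
      change hs.snd (algebraMap B X.E (b * b')) = _
      rw [map_mul, hs.snd_mul, AlgHom.commutes, AlgHom.commutes, algebraMap_smul, algebraMap_smul]
      rfl)

lemma secDer_apply (hs : IsSec A X s) (b : B) : secDer hs b = hs.snd (algebraMap B X.E b) := rfl

attribute [local instance] opModule isCentralScalar_opModule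

/-- An `A`-trivial `B`-extension is equivalent to the one attached to a derivation. -/
noncomputable def ofDerEquiv (hs : IsSec A X s) :
    (Exal.Ext.ofDerivation (C := C) (secDer hs)).Equiv X :=
  equivOfHom _ _
    { toFun := fun x : TrivSqZeroExt C L => s x.fst + X.incl x.snd
      map_one' := by
        change s (TrivSqZeroExt.fst (1 : TrivSqZeroExt C L)) +
          X.incl (TrivSqZeroExt.snd (1 : TrivSqZeroExt C L)) = 1
        rw [TrivSqZeroExt.fst_one, TrivSqZeroExt.snd_one, map_one, map_zero, add_zero]
      map_mul' := fun x y => by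
        change s (TrivSqZeroExt.fst (show TrivSqZeroExt C L from x * y)) +
          X.incl (TrivSqZeroExt.snd (show TrivSqZeroExt C L from x * y)) = _
        have h1 : TrivSqZeroExt.fst (show TrivSqZeroExt C L from x * y) =
          TrivSqZeroExt.fst (show TrivSqZeroExt C L from x) *
          TrivSqZeroExt.fst (show TrivSqZeroExt C L from y) := TrivSqZeroExt.fst_mul _ _
        have h2 : TrivSqZeroExt.snd (show TrivSqZeroExt C L from x * y) =
          TrivSqZeroExt.fst (show TrivSqZeroExt C L from x) •
            TrivSqZeroExt.snd (show TrivSqZeroExt C L from y) +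
          TrivSqZeroExt.fst (show TrivSqZeroExt C L from y) •
            TrivSqZeroExt.snd (show TrivSqZeroExt C L from x) := TrivSqZeroExt.snd_mul _ _
        rw [h1, h2, map_mul, map_add, add_mul, mul_add, mul_add, incl_mul_incl, add_zero,
          mul_incl, incl_mul, hs.proj, hs.proj, add_assoc]
      map_zero' := by
        change s (TrivSqZeroExt.fst (0 : TrivSqZeroExt C L)) +
          X.incl (TrivSqZeroExt.snd (0 : TrivSqZeroExt C L)) = 0
        rw [TrivSqZeroExt.fst_zero, TrivSqZeroExt.snd_zero, map_zero, map_zero, add_zero]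
      map_add' := fun x y => by
        change s (TrivSqZeroExt.fst (show TrivSqZeroExt C L from x) +
            TrivSqZeroExt.fst (show TrivSqZeroExt C L from y)) +
          X.incl (TrivSqZeroExt.snd (show TrivSqZeroExt C L from x) +
            TrivSqZeroExt.snd (show TrivSqZeroExt C L from y)) = _
        rw [map_add, map_add]
        abel
      commutes' := fun b => by
        change s (TrivSqZeroExt.fst (TrivSqZeroExt.inl (algebraMap B C b) +
            TrivSqZeroExt.inr (secDer hs b) : TrivSqZeroExt C L)) +
          X.incl (TrivSqZeroExt.snd (TrivSqZeroExt.inl (algebraMap B C b) +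
            TrivSqZeroExt.inr (secDer hs b) : TrivSqZeroExt C L)) = _
        rw [TrivSqZeroExt.fst_add, TrivSqZeroExt.snd_add, TrivSqZeroExt.fst_inl,
          TrivSqZeroExt.fst_inr, TrivSqZeroExt.snd_inl, TrivSqZeroExt.snd_inr, add_zero, zero_add,
          secDer_apply, hs.incl_snd, AlgHom.commutes]
        ring }
    (fun x => by
      change X.proj (s (TrivSqZeroExt.fst (show TrivSqZeroExt C L from x)) +
        X.incl (TrivSqZeroExt.snd (show TrivSqZeroExt C L from x))) = _
      rw [map_add, proj_incl, add_zero, hs.proj]
      rfl)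
    (fun z => by
      change s (0 : C) + X.incl z = _
      rw [map_zero, zero_add])

/-- Transport of sections along equivalences. -/
lemma isTrivialOver_of_equiv {X Y : Ext B C L} (e : X.Equiv Y) (h : X.IsTrivialOver A) :
    Y.IsTrivialOver A := by
  rw [isTrivialOver_iff] at h ⊢
  obtain ⟨s, hs⟩ := h
  refine ⟨e.toAlgEquiv.toRingEquiv.toRingHom.comp s, fun c => ?_, fun a => ?_⟩
  · change Y.proj (e.toAlgEquiv (s c)) = c
    rw [e.proj_apply, hs.proj]
  · change e.toAlgEquiv (s _) = _
    rw [hs.commutes, AlgEquiv.commutes]

/-- The extension attached to a derivation is trivial over the small ring. -/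
lemma isSec_ofDerivation (D : Derivation A B L) :
    IsSec A (Exal.Ext.ofDerivation (C := C) D) (TrivSqZeroExt.inlHom C L) where
  proj := fun _ => rfl
  commutes := fun a => by
    change TrivSqZeroExt.inl (algebraMap A C a) =
      TrivSqZeroExt.inl (algebraMap B C (algebraMap A B a)) +
        TrivSqZeroExt.inr (D (algebraMap A B a))
    rw [Derivation.map_algebraMap, TrivSqZeroExt.inr_zero, add_zero,
      ← IsScalarTower.algebraMap_apply]

lemma isTrivialOver_ofDerivation (D : Derivation A B L) :
    (Exal.Ext.ofDerivation (C := C) D).IsTrivialOver A :=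
  (isTrivialOver_iff _).2 ⟨_, isSec_ofDerivation D⟩

/-- The kernel of the forgetful map on classes of extensions. -/
theorem isTrivialOver_iff_exists_equiv (X : Ext B C L) : X.IsTrivialOver A ↔
    ∃ D : Derivation A B L, Nonempty (X.Equiv (Exal.Ext.ofDerivation (C := C) D)) := by
  constructor
  · intro h
    obtain ⟨s, hs⟩ := (isTrivialOver_iff X).1 h
    exact ⟨secDer hs, ⟨(ofDerEquiv hs).symm⟩⟩
  · rintro ⟨D, ⟨e⟩⟩
    exact isTrivialOver_of_equiv e.symm (isTrivialOver_ofDerivation D)

/-- The automorphism `(c, z) ↦ (c, z - D' c)` of `C ⊕ L`. -/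
noncomputable def shear (D' : Derivation A C L) : TrivSqZeroExt C L →+* TrivSqZeroExt C L where
  toFun x := TrivSqZeroExt.inl x.fst + TrivSqZeroExt.inr (x.snd - D' x.fst)
  map_one' := by
    rw [TrivSqZeroExt.fst_one, TrivSqZeroExt.snd_one, Derivation.map_one_eq_zero, sub_zero,
      TrivSqZeroExt.inr_zero, add_zero, TrivSqZeroExt.inl_one]
  map_mul' x y := by
    apply TrivSqZeroExt.ext
    · simp
    · simp only [TrivSqZeroExt.snd_add, TrivSqZeroExt.snd_inl, TrivSqZeroExt.snd_inr, zero_add,
        TrivSqZeroExt.snd_mul, TrivSqZeroExt.fst_add, TrivSqZeroExt.fst_inl,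
        TrivSqZeroExt.fst_inr, add_zero, TrivSqZeroExt.fst_mul, Derivation.leibniz,
        op_smul_eq_smul, smul_sub]
      abel
  map_zero' := by simp
  map_add' x y := by
    apply TrivSqZeroExt.ext
    · simp
    · simp only [TrivSqZeroExt.snd_add, TrivSqZeroExt.snd_inl, TrivSqZeroExt.snd_inr, zero_add,
        TrivSqZeroExt.fst_add, map_add]
      abel

lemma shear_apply (D' : Derivation A C L) (x : TrivSqZeroExt C L) :
    shear D' x = TrivSqZeroExt.inl x.fst + TrivSqZeroExt.inr (x.snd - D' x.fst) := rfl

/-- Two derivations differing by the restriction of a derivation of `C` give equivalent extensions. -/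
theorem nonempty_equiv_of_sub_eq (D₁ D₂ : Derivation A B L) (D' : Derivation A C L)
    (h : ∀ b, D₁ b - D₂ b = D' (algebraMap B C b)) :
    Nonempty ((Exal.Ext.ofDerivation (C := C) D₁).Equiv (Exal.Ext.ofDerivation (C := C) D₂)) := by
  refine ⟨equivOfHom _ _
    { toFun := shear D'
      map_one' := (shear D').map_one
      map_mul' := (shear D').map_mul
      map_zero' := (shear D').map_zero
      map_add' := (shear D').map_add
      commutes' := fun b => ?_ } (fun x => ?_) (fun z => ?_)⟩
  · change shear D' (TrivSqZeroExt.inl (algebraMap B C b) + TrivSqZeroExt.inr (D₁ b)) =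
      (TrivSqZeroExt.inl (algebraMap B C b) + TrivSqZeroExt.inr (D₂ b) : TrivSqZeroExt C L)
    rw [shear_apply, TrivSqZeroExt.fst_add, TrivSqZeroExt.snd_add, TrivSqZeroExt.fst_inl,
      TrivSqZeroExt.fst_inr, TrivSqZeroExt.snd_inl, TrivSqZeroExt.snd_inr, add_zero, zero_add, ← h]
    congr 2
    abel
  · change TrivSqZeroExt C L at x
    change TrivSqZeroExt.fst (shear D' x) = x.fst
    rw [shear_apply]
    simp
  · change shear D' (TrivSqZeroExt.inr z) = (TrivSqZeroExt.inr z : TrivSqZeroExt C L)
    rw [shear_apply]
    simp

/-- Exactness at the derivations. -/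
theorem ofDerivation_isTrivial_iff (D : Derivation A B L) :
    (Exal.Ext.ofDerivation (C := C) D).IsTrivial ↔
      ∃ D' : Derivation A C L, D'.compAlgebraMap B = D := by
  constructor
  · rintro ⟨s, hs⟩
    let t : C → TrivSqZeroExt C L := fun c => s c
    have ht1 : ∀ c, (t c).fst = c := hs
    have htm : ∀ c c', t (c * c') = t c * t c' := fun c c' => map_mul s c c'
    have hta : ∀ c c', t (c + c') = t c + t c' := fun c c' => map_add s c c'
    have htc : ∀ b, t (algebraMap B C b) =
        (TrivSqZeroExt.inl (algebraMap B C b) + TrivSqZeroExt.inr (D b)) := fun b => s.commutes b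
    have htsm : ∀ c c', (t (c * c')).snd = c • (t c').snd + c' • (t c).snd := by
      intro c c'
      rw [htm]
      refine (TrivSqZeroExt.snd_mul _ _).trans ?_
      rw [ht1, ht1]
      rfl
    refine ⟨Derivation.mk'
      { toFun := fun c => (t c).snd
        map_add' := fun c c' => by rw [hta, TrivSqZeroExt.snd_add]
        map_smul' := fun a c => ?_ } (fun c c' => ?_), ?_⟩
    · rw [Algebra.smul_def, htsm, IsScalarTower.algebraMap_apply A B C, htc]
      rw [TrivSqZeroExt.snd_add, TrivSqZeroExt.snd_inl, TrivSqZeroExt.snd_inr,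
        Derivation.map_algebraMap, add_zero, smul_zero, add_zero,
        ← IsScalarTower.algebraMap_apply A B C, algebraMap_smul]
      rfl
    · exact htsm c c'
    · ext b
      change (t (algebraMap B C b)).snd = D b
      rw [htc]
      simp
  · rintro ⟨D', rfl⟩
    have hD : ∀ b, (D'.compAlgebraMap B) b = D' (algebraMap B C b) := fun b => rfl
    obtain ⟨e⟩ := nonempty_equiv_of_sub_eq (C := C) (0 : Derivation A B L) (D'.compAlgebraMap B) (-D')
      (fun b => by rw [hD]; simp)
    refine ⟨e.toAlgEquiv.toAlgHom.comp
      { toFun := fun c => (TrivSqZeroExt.inl c : TrivSqZeroExt C L)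
        map_one' := rfl
        map_mul' := fun c c' => TrivSqZeroExt.inl_mul _ _ _
        map_zero' := rfl
        map_add' := fun c c' => TrivSqZeroExt.inl_add _ _ _
        commutes' := fun b => ?_ }, fun c => ?_⟩
    · change (TrivSqZeroExt.inl (algebraMap B C b) : TrivSqZeroExt C L) =
        TrivSqZeroExt.inl (algebraMap B C b) +
          TrivSqZeroExt.inr ((0 : Derivation A B L) b)
      simp
    · exact (e.proj_apply _).trans rfl

end Sec

end K104.ExalB
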