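import Groth.Agent.EGA41.K104.ExalB
import Mathlib.RingTheory.Smooth.Basic

/-!
# The extension attached to a square-zero lifting problem
-/

set_option autoImplicit false
set_option linter.unusedSectionVars false
universe u v w

namespace K104.ExalC

open Exal Exal.Ext ExalA

section

variable {A B C : Type u} [CommRing A] [CommRing B] [CommRing C] [Algebra A B] [Algebra A C]
  (J : Ideal C) (hJ : J ^ 2 = ⊥) (u₀ : B →ₐ[A] C ⧸ J)

/-- `J/J² → C` for an ideal `J` of square zero. -/
noncomputable def cotToRing : J.Cotangent →ₗ[C] C :=
  Submodule.liftQ (J • ⊤ : Submodule C J) J.subtype (by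
    rw [Submodule.smul_le]
    intro b hb z _
    rw [LinearMap.mem_ker, map_smul]
    change b * z = 0
    have : b * z ∈ J ^ 2 := by rw [pow_two]; exact Ideal.mul_mem_mul hb z.2
    rwa [hJ] at this)

lemma cotToRing_toCotangent (j : J) : cotToRing J hJ (J.toCotangent j) = j := rfl

lemma cotToRing_injective : Function.Injective (cotToRing J hJ) := by
  rw [injective_iff_map_eq_zero]
  intro z hz
  obtain ⟨j, rfl⟩ := J.toCotangent_surjective z
  rw [cotToRing_toCotangent] at hz
  have : j = 0 := Subtype.ext hz
  rw [this, map_zero]

lemma cotToRing_mem (z : J.Cotangent) : cotToRing J hJ z ∈ J := by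
  obtain ⟨j, rfl⟩ := J.toCotangent_surjective z
  exact j.2

/-- The `B`-module structure on `J/J²` through `u₀ : B → C/J`. -/
noncomputable abbrev modB : Module B J.Cotangent := Module.compHom J.Cotangent u₀.toRingHom

/-- The extension of `B` by `J` attached to a lifting problem `u₀ : B → C/J` with `J² = 0`. -/
noncomputable def testExt :
    letI := modB J u₀
    Ext A B J.Cotangent :=
  letI := modB J u₀
  { E := ↥(AlgHom.equalizer ((Ideal.Quotient.mkₐ A J).comp (AlgHom.fst A C B))
      (u₀.comp (AlgHom.snd A C B)))
    proj := (AlgHom.snd A C B).comp (Subalgebra.val _)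
    incl :=
      { toFun := fun z => ⟨(cotToRing J hJ z, 0), by
          rw [AlgHom.mem_equalizer]
          change Ideal.Quotient.mk J (cotToRing J hJ z) = u₀ 0
          rw [map_zero, Ideal.Quotient.eq_zero_iff_mem]
          exact cotToRing_mem J hJ z⟩
        map_zero' := by
          apply Subtype.ext
          apply Prod.ext <;> simp
        map_add' := fun z z' => by
          apply Subtype.ext
          apply Prod.ext <;> simp }
    isExtension :=
      { proj_surjective := fun b => by
          obtain ⟨c, hc⟩ := Ideal.Quotient.mk_surjective (u₀ b)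
          exact ⟨⟨(c, b), hc⟩, rfl⟩
        incl_injective := fun z z' h => by
          have := congrArg (fun e => (Subtype.val e : C × B).1) h
          exact cotToRing_injective J hJ this
        exact := fun x => by
          obtain ⟨⟨c, b⟩, hx⟩ := x
          have hx' : Ideal.Quotient.mk J c = u₀ b := hx
          constructor
          · intro hb
            change b = 0 at hb
            subst hb
            rw [map_zero, Ideal.Quotient.eq_zero_iff_mem] at hx'
            exact ⟨J.toCotangent ⟨c, hx'⟩, rfl⟩
          · rintro ⟨z, hz⟩
            have := congrArg (fun e => (Subtype.val e : C × B).2) hz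
            exact this.symm
        mul_incl := fun x z => by
          obtain ⟨⟨c, b⟩, hx⟩ := x
          have hx' : Ideal.Quotient.mk J c = u₀ b := hx
          apply Subtype.ext
          apply Prod.ext
          · change c * cotToRing J hJ z = cotToRing J hJ (u₀ b • z)
            rw [← hx', ← Ideal.Quotient.algebraMap_eq, algebraMap_smul, map_smul, smul_eq_mul]
          · change b * 0 = 0
            exact mul_zero _ } }

/-- If the extension is trivial then the lifting problem has a solution. -/
theorem exists_lift (h : letI := modB J u₀; (testExt J hJ u₀).IsTrivial) :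
    ∃ v : B →ₐ[A] C, (Ideal.Quotient.mkₐ A J).comp v = u₀ := by
  obtain ⟨s, hs⟩ := h
  refine ⟨(AlgHom.fst A C B).comp ((Subalgebra.val (AlgHom.equalizer
    ((Ideal.Quotient.mkₐ A J).comp (AlgHom.fst A C B))
      (u₀.comp (AlgHom.snd A C B)))).comp s), ?_⟩
  ext b
  exact (s b).2.trans (congrArg u₀ (hs b))

/-- If the lifting problem has a solution over a smaller ring then the extension is trivial over it. -/
theorem isTrivialOver (Λ : Type u) [CommRing Λ] [Algebra Λ A] [Algebra Λ B] [Algebra Λ C]
    [IsScalarTower Λ A B] [IsScalarTower Λ A C] (u : B →ₐ[Λ] C)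
    (hu : (Ideal.Quotient.mkₐ Λ J).comp u = u₀.restrictScalars Λ) :
    letI := modB J u₀
    (testExt J hJ u₀).IsTrivialOver Λ := by
  refine ⟨{ toFun := fun b => ⟨(u b, b), DFunLike.congr_fun hu b⟩
            map_one' := Subtype.ext (Prod.ext (map_one u) rfl)
            map_mul' := fun x y => Subtype.ext (Prod.ext (map_mul u x y) rfl)
            map_zero' := Subtype.ext (Prod.ext (map_zero u) rfl)
            map_add' := fun x y => Subtype.ext (Prod.ext (map_add u x y) rfl)
            commutes' := fun a => Subtype.ext (Prod.ext ?_ ?_) }, fun b => rfl⟩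
  · change u (algebraMap Λ B a) = algebraMap A C (algebraMap Λ A a)
    rw [AlgHom.commutes, ← IsScalarTower.algebraMap_apply]
  · change algebraMap Λ B a = algebraMap A B (algebraMap Λ A a)
    rw [← IsScalarTower.algebraMap_apply]

end

lemma ker_proj_sq {A : Type u} {B L : Type v} [CommRing A] [CommRing B] [Algebra A B]
    [AddCommGroup L] [Module B L] (X : Ext A B L) : (RingHom.ker X.proj) ^ 2 = ⊥ := by
  rw [eq_bot_iff, pow_two, Ideal.mul_le]
  intro x hx y hy
  obtain ⟨z, rfl⟩ := exists_incl X hx
  obtain ⟨z', rfl⟩ := exists_incl X hy
  rw [incl_mul_incl]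
  exact Ideal.zero_mem _

end K104.ExalC
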