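import Groth.Agent.EGA41.K104.ExalB
import Groth.Prelude.Def_Exal3
import Mathlib.RingTheory.Kaehler.Basic
import Mathlib.RingTheory.TensorProduct.IsBaseChangeHom

/-!
# The characteristic homomorphism of an extension
-/

set_option autoImplicit false
set_option linter.unusedSectionVars false
universe u v w

open scoped TensorProduct

namespace K104.ExalD

open Exal Exal.Ext ExalA ExalB

variable {A : Type u} {B C L : Type v} [CommRing A] [CommRing B] [CommRing C]
  [Algebra A B] [Algebra B C] [Algebra A C] [IsScalarTower A B C] [AddCommGroup L] [Module C L]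

/-- `L` as a module over the middle ring. -/
noncomputable abbrev modQ (A : Type u) [CommRing A] [Algebra A B] (X : Ext B C L) :
    Module (X.CharCarrier A) L :=
  Module.compHom L (algebraMap (X.CharCarrier A) C)

attribute [local instance] modQ

instance towerQC (A : Type u) [CommRing A] [Algebra A B] (X : Ext B C L) :
    IsScalarTower (X.CharCarrier A) C L where
  smul_assoc x c l := by
    rw [Algebra.smul_def, mul_smul]
    rfl

lemma smul_eq_proj_smul (X : Ext B C L) (x : X.CharCarrier A) (l : L) :
    x • l = (show C from algebraMap (X.CharCarrier A) C x) • l := rfl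

lemma algebraMap_carrier (X : Ext B C L) (x : X.CharCarrier A) :
    algebraMap (X.CharCarrier A) C x = X.proj (show X.E from x) := rfl

variable [Module B L] [IsScalarTower B C L] [Module A L] [IsScalarTower A B L]
  [IsScalarTower A C L]

lemma towerAQ (X : Ext B C L) : IsScalarTower A (X.CharCarrier A) L where
  smul_assoc a x l := by
    rw [Algebra.smul_def, mul_smul, smul_eq_proj_smul X (algebraMap A (X.CharCarrier A) a),
      ← IsScalarTower.algebraMap_apply A (X.CharCarrier A) C, algebraMap_smul]

attribute [local instance] towerAQ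

variable {X : Ext B C L} {s : C →+* X.E}

/-- The derivation `x ↦ x - s (p x)` of the middle ring. -/
noncomputable def midDer (hs : IsSec A X s) : Derivation A (X.CharCarrier A) L :=
  Derivation.mk'
    { toFun := fun x => hs.snd (show X.E from x)
      map_add' := fun x y => hs.snd_add x y
      map_smul' := fun a x => by
        have h1 : (show X.E from a • x) = algebraMap B X.E (algebraMap A B a) * (show X.E from x) :=
          Algebra.smul_def a x
        rw [h1, hs.snd_mul, hs.snd_algebraMap, smul_zero, add_zero, AlgHom.commutes,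
          ← IsScalarTower.algebraMap_apply, algebraMap_smul]
        rfl }
    (fun x y => hs.snd_mul x y)

lemma midDer_apply (hs : IsSec A X s) (x : X.CharCarrier A) :
    midDer hs x = hs.snd (show X.E from x) := rfl

/-- The retraction `C ⊗_E Ω_{E/A} → L` attached to a section. -/
noncomputable def retr (hs : IsSec A X s) :
    C ⊗[X.CharCarrier A] Ω[X.CharCarrier A⁄A] →ₗ[C] L :=
  (midDer hs).liftKaehlerDifferential.liftBaseChange C

lemma retr_tmul_D (hs : IsSec A X s) (c : C) (x : X.CharCarrier A) :
    retr hs (c ⊗ₜ KaehlerDifferential.D A (X.CharCarrier A) x) = c • hs.snd (show X.E from x) := by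
  rw [retr, LinearMap.liftBaseChange_tmul, Derivation.liftKaehlerDifferential_comp_D]
  rfl

lemma retr_deltaL (hs : IsSec A X s) (z : L) : retr hs (X.deltaL A z) = z := by
  change retr hs ((1 : C) ⊗ₜ[X.CharCarrier A] KaehlerDifferential.D A (X.CharCarrier A)
    (X.inclC A z)) = z
  rw [retr_tmul_D, one_smul]
  exact hs.snd_incl z

lemma deltaL_injective (hs : IsSec A X s) : Function.Injective (X.deltaL A) :=
  Function.LeftInverse.injective (retr_deltaL hs)

/-- `C ⊗_B Ω_{B/A} → L` attached to a derivation of `B` in `L`. -/
noncomputable def derLift (D : Derivation A B L) : C ⊗[B] Ω[B⁄A] →ₗ[C] L :=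
  D.liftKaehlerDifferential.liftBaseChange C

lemma derLift_tmul_D (D : Derivation A B L) (c : C) (b : B) :
    derLift D (c ⊗ₜ KaehlerDifferential.D A B b) = c • D b := by
  rw [derLift, LinearMap.liftBaseChange_tmul, Derivation.liftKaehlerDifferential_comp_D]

/-- Induction on `C ⊗_B Ω_{B/A}`. -/
lemma tensor_induction {R S T : Type*} [CommRing R] [CommRing S] [CommRing T] [Algebra R S]
    [Algebra S T] {P : T ⊗[S] Ω[S⁄R] → Prop} (z : T ⊗[S] Ω[S⁄R])
    (hD : ∀ (t : T) (x : S), P (t ⊗ₜ KaehlerDifferential.D R S x))
    (h0 : P 0) (hadd : ∀ x y, P x → P y → P (x + y)) : P z := by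
  induction z using TensorProduct.induction_on with
  | zero => exact h0
  | add x y hx hy => exact hadd x y hx hy
  | tmul t ω =>
    have hω : ω ∈ Submodule.span S (Set.range (KaehlerDifferential.D R S)) := by
      rw [KaehlerDifferential.span_range_derivation]
      trivial
    induction hω using Submodule.span_induction generalizing t with
    | mem x hx =>
      obtain ⟨x, rfl⟩ := hx
      exact hD t x
    | zero => rwa [TensorProduct.tmul_zero]
    | add x y _ _ hx hy => rw [TensorProduct.tmul_add]; exact hadd _ _ (hx t) (hy t)
    | smul a x _ hx =>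
      rw [← TensorProduct.smul_tmul]
      exact hx (a • t)

lemma baseChangeToMiddle_tmul_D (X : Ext B C L) (c : C) (b : B) :
    X.baseChangeToMiddle A (c ⊗ₜ KaehlerDifferential.D A B b) =
      c ⊗ₜ KaehlerDifferential.D A (X.CharCarrier A) (algebraMap B (X.CharCarrier A) b) := by
  change c ⊗ₜ[X.CharCarrier A] KaehlerDifferential.map A A B (X.CharCarrier A)
    (KaehlerDifferential.D A B b) = _
  rw [KaehlerDifferential.map_D]

lemma retr_baseChangeToMiddle (hs : IsSec A X s) (z : C ⊗[B] Ω[B⁄A]) :
    retr hs (X.baseChangeToMiddle A z) = derLift (secDer hs) z := by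
  induction z using tensor_induction with
  | hD c b =>
    rw [baseChangeToMiddle_tmul_D, retr_tmul_D, derLift_tmul_D]
    rfl
  | h0 => simp
  | hadd x y hx hy => rw [map_add, map_add, map_add, hx, hy]

lemma mapBaseChange_baseChangeToMiddle (X : Ext B C L) (z : C ⊗[B] Ω[B⁄A]) :
    KaehlerDifferential.mapBaseChange A (X.CharCarrier A) C (X.baseChangeToMiddle A z) =
      KaehlerDifferential.mapBaseChange A B C z := by
  induction z using tensor_induction with
  | hD c b =>
    rw [baseChangeToMiddle_tmul_D, KaehlerDifferential.mapBaseChange_tmul,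
      KaehlerDifferential.mapBaseChange_tmul, KaehlerDifferential.map_D,
      KaehlerDifferential.map_D, ← IsScalarTower.algebraMap_apply]
  | h0 => simp
  | hadd x y hx hy => rw [map_add, map_add, map_add, hx, hy]

/-- The derivation `c ↦ 1 ⊗ d (s c)`. -/
noncomputable def sigDer (hs : IsSec A X s) :
    Derivation A C (C ⊗[X.CharCarrier A] Ω[X.CharCarrier A⁄A]) :=
  Derivation.mk'
    { toFun := fun c => (1 : C) ⊗ₜ[X.CharCarrier A]
        KaehlerDifferential.D A (X.CharCarrier A) (show X.CharCarrier A from s c)
      map_add' := fun c c' => by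
        rw [← TensorProduct.tmul_add, ← map_add]
        congr 2
        exact map_add s c c'
      map_smul' := fun a c => by
        have h1 : (show X.CharCarrier A from s (a • c)) =
            a • (show X.CharCarrier A from s c) := by
          rw [Algebra.smul_def, Algebra.smul_def]
          refine (map_mul s _ _).trans ?_
          rw [hs.commutes]
          rfl
        rw [h1, Derivation.map_smul, TensorProduct.tmul_smul]
        rfl }
    (fun c c' => by
      change (1 : C) ⊗ₜ[X.CharCarrier A]
        KaehlerDifferential.D A (X.CharCarrier A) (show X.CharCarrier A from s (c * c')) = 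
        c • ((1 : C) ⊗ₜ[X.CharCarrier A]
          KaehlerDifferential.D A (X.CharCarrier A) (show X.CharCarrier A from s c')) +
        c' • ((1 : C) ⊗ₜ[X.CharCarrier A]
          KaehlerDifferential.D A (X.CharCarrier A) (show X.CharCarrier A from s c))
      have h1 : (show X.CharCarrier A from s (c * c')) =
        (show X.CharCarrier A from s c) * (show X.CharCarrier A from s c') := map_mul s c c'
      have h2 : ∀ (c : C) (ω : Ω[X.CharCarrier A⁄A]),
          (1 : C) ⊗ₜ[X.CharCarrier A] ((show X.CharCarrier A from s c) • ω) =
            c • ((1 : C) ⊗ₜ[X.CharCarrier A] ω) := by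
        intro c ω
        rw [← TensorProduct.smul_tmul, TensorProduct.smul_tmul', Algebra.smul_def]
        congr 1
        rw [mul_one, smul_eq_mul, mul_one]
        exact hs.proj c
      rw [h1, Derivation.leibniz, TensorProduct.tmul_add, h2, h2])

lemma smul_deltaL (hs : IsSec A X s) (c : C) (z : L) : c • X.deltaL A z = X.deltaL A (c • z) := by
  have h1 : X.inclC A (c • z) = (show X.CharCarrier A from s c) * X.inclC A z := by
    have := mul_incl X (s c) z
    rw [hs.proj] at this
    exact this.symm
  change c • ((1 : C) ⊗ₜ[X.CharCarrier A] KaehlerDifferential.D A (X.CharCarrier A)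
    (X.inclC A z)) = (1 : C) ⊗ₜ[X.CharCarrier A] KaehlerDifferential.D A (X.CharCarrier A)
    (X.inclC A (c • z))
  rw [h1, Derivation.leibniz, TensorProduct.tmul_add, ← TensorProduct.smul_tmul,
    ← TensorProduct.smul_tmul, Algebra.smul_def, Algebra.smul_def, mul_one, mul_one,
    TensorProduct.smul_tmul', smul_eq_mul, mul_one]
  have h2 : algebraMap (X.CharCarrier A) C (show X.CharCarrier A from s c) = c := hs.proj c
  have h3 : algebraMap (X.CharCarrier A) C (X.inclC A z) = 0 := proj_incl X z
  rw [h2, h3, TensorProduct.zero_tmul, add_zero]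

lemma decomp (hs : IsSec A X s) (w : C ⊗[X.CharCarrier A] Ω[X.CharCarrier A⁄A]) :
    w = (sigDer hs).liftKaehlerDifferential
      (KaehlerDifferential.mapBaseChange A (X.CharCarrier A) C w) + X.deltaL A (retr hs w) := by
  induction w using tensor_induction with
  | hD c x =>
    rw [KaehlerDifferential.mapBaseChange_tmul, KaehlerDifferential.map_D, map_smul,
      Derivation.liftKaehlerDifferential_comp_D, retr_tmul_D, ← smul_deltaL hs, ← smul_add]
    change _ = c • ((1 : C) ⊗ₜ[X.CharCarrier A]
        KaehlerDifferential.D A (X.CharCarrier A)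
          (show X.CharCarrier A from s (X.proj (show X.E from x))) +
        (1 : C) ⊗ₜ[X.CharCarrier A]
        KaehlerDifferential.D A (X.CharCarrier A) (X.inclC A (hs.snd (show X.E from x))))
    rw [← TensorProduct.tmul_add, ← map_add]
    have : (show X.CharCarrier A from s (X.proj (show X.E from x))) +
        X.inclC A (hs.snd (show X.E from x)) = x := by
      have := hs.incl_snd (show X.E from x)
      change (show X.E from s (X.proj (show X.E from x))) + X.incl (hs.snd (show X.E from x)) = _
      rw [this]
      exact add_sub_cancel _ _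
    rw [this, TensorProduct.smul_tmul', smul_eq_mul, mul_one]
  | h0 => simp
  | hadd x y hx hy =>
    rw [map_add, map_add, map_add, map_add]
    nth_rw 1 [hx]
    nth_rw 1 [hy]
    abel

/-- The characteristic homomorphism is the restriction of the linear map attached to the
derivation `b ↦ b - s b`. -/
theorem isCharHom_iff (hs : IsSec A X s) (χ : ↥(EGA41.imperfection A B C) →ₗ[C] L) :
    X.IsCharHom A χ ↔ ∀ z : ↥(EGA41.imperfection A B C),
      χ z = derLift (C := C) (secDer hs) (z : C ⊗[B] Ω[B⁄A]) := by
  have key : ∀ z : ↥(EGA41.imperfection A B C),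
      X.baseChangeToMiddle A (z : C ⊗[B] Ω[B⁄A]) =
        X.deltaL A (derLift (C := C) (secDer hs) (z : C ⊗[B] Ω[B⁄A])) := by
    intro z
    have h1 := decomp hs (X.baseChangeToMiddle A (z : C ⊗[B] Ω[B⁄A]))
    rwa [mapBaseChange_baseChangeToMiddle, show KaehlerDifferential.mapBaseChange A B C
      (z : C ⊗[B] Ω[B⁄A]) = 0 from z.2, map_zero, zero_add, retr_baseChangeToMiddle] at h1
  refine forall_congr' fun z => ?_
  rw [key]
  exact (deltaL_injective hs).eq_iff

end K104.ExalD
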