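import Groth.Agent.EGA41.K104.ExalD
import Mathlib.Algebra.Module.Injective

/-!
# The characteristic homomorphism of an extension: existence, uniqueness, injectivity, surjectivity
-/

set_option autoImplicit false
set_option linter.unusedSectionVars false
universe u v w

open scoped TensorProduct

namespace K104.ExalE

open Exal Exal.Ext ExalA ExalB ExalD

section Towers

variable (A : Type u) (B C L : Type v) [CommRing A] [CommRing B] [CommRing C]
  [Algebra A B] [Algebra B C] [Algebra A C] [IsScalarTower A B C] [AddCommGroup L] [Module C L]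

/-- A `C`-module as a module over a ring mapping to `C`. -/
noncomputable abbrev modR (R : Type w) [CommRing R] [Algebra R C] : Module R L :=
  Module.compHom L (algebraMap R C)

lemma tower₁ (R : Type w) [CommRing R] [Algebra R C] :
    letI := modR C L R
    IsScalarTower R C L :=
  letI := modR C L R
  { smul_assoc := fun b c l => by
      rw [Algebra.smul_def, mul_smul]
      rfl }

lemma tower₂ :
    letI := modR C L A
    letI := modR C L B
    IsScalarTower A B L :=
  letI := modR C L A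
  letI := modR C L B
  { smul_assoc := fun a b l => by
      change algebraMap B C (a • b) • l = algebraMap A C a • (algebraMap B C b • l)
      rw [Algebra.smul_def, map_mul, ← IsScalarTower.algebraMap_apply, mul_smul] }

end Towers

section Main

variable {A : Type u} {B C L : Type v} [CommRing A] [CommRing B] [CommRing C]
  [Algebra A B] [Algebra B C] [Algebra A C] [IsScalarTower A B C] [AddCommGroup L] [Module C L]
  [Module B L] [IsScalarTower B C L] [Module A L] [IsScalarTower A B L]
  [IsScalarTower A C L]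

theorem existsUnique (X : Ext B C L) (hX : X.IsTrivialOver A) :
    ∃! χ : ↥(EGA41.imperfection A B C) →ₗ[C] L, X.IsCharHom A χ := by
  obtain ⟨s, hs⟩ := (isTrivialOver_iff X).1 hX
  refine ⟨(derLift (secDer hs)).comp (Submodule.subtype _), ?_, fun χ hχ => ?_⟩
  · exact (isCharHom_iff hs _).2 fun z => rfl
  · ext z
    exact (isCharHom_iff hs _).1 hχ z

/-- A linear map on `C ⊗_B Ω_{B/A}` killing the imperfection module extends to `Ω_{C/A}`. -/
lemma exists_extend (h : Module.Injective C L ∨
      ∃ s : Ω[C⁄B] →ₗ[C] Ω[C⁄A], ∀ ω : Ω[C⁄B], KaehlerDifferential.map A B C C (s ω) = ω)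
    (φ : C ⊗[B] Ω[B⁄A] →ₗ[C] L)
    (hφ : ∀ z : ↥(EGA41.imperfection A B C), φ (z : C ⊗[B] Ω[B⁄A]) = 0) :
    ∃ ψ : Ω[C⁄A] →ₗ[C] L, ∀ z, ψ (KaehlerDifferential.mapBaseChange A B C z) = φ z := by
  let π := KaehlerDifferential.mapBaseChange A B C
  -- the induced map on the image
  let e := π.quotKerEquivRange
  let φ' : (C ⊗[B] Ω[B⁄A] ⧸ LinearMap.ker π) →ₗ[C] L :=
    Submodule.liftQ _ φ fun z hz => hφ ⟨z, hz⟩
  let φ'' : LinearMap.range π →ₗ[C] L := φ' ∘ₗ e.symm.toLinearMap
  have hφ'' : ∀ z, φ'' ⟨π z, z, rfl⟩ = φ z := by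
    intro z
    have : e.symm ⟨π z, z, rfl⟩ = Submodule.Quotient.mk z := by
      rw [LinearEquiv.symm_apply_eq]
      rfl
    change φ' (e.symm ⟨π z, z, rfl⟩) = _
    rw [this]
    rfl
  rcases h with h | ⟨s, hs⟩
  · obtain ⟨ψ, hψ⟩ := h.out (LinearMap.range π).subtype (Submodule.subtype_injective _) φ''
    exact ⟨ψ, fun z => (hψ ⟨π z, z, rfl⟩).trans (hφ'' z)⟩
  · let p₀ : Ω[C⁄A] →ₗ[C] Ω[C⁄A] := LinearMap.id - s ∘ₗ KaehlerDifferential.map A B C C
    have hp : ∀ ω, p₀ ω ∈ LinearMap.range π := by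
      intro ω
      rw [KaehlerDifferential.range_mapBaseChange, LinearMap.mem_ker]
      change KaehlerDifferential.map A B C C (ω - s (KaehlerDifferential.map A B C C ω)) = 0
      rw [map_sub, hs, sub_self]
    refine ⟨φ'' ∘ₗ p₀.codRestrict _ hp, fun z => ?_⟩
    rw [← hφ'']
    change φ'' ⟨p₀ (π z), _⟩ = _
    congr 2
    change π z - s (KaehlerDifferential.map A B C C (π z)) = π z
    have : KaehlerDifferential.map A B C C (π z) = 0 := by
      have h1 : π z ∈ LinearMap.range π := ⟨z, rfl⟩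
      rw [KaehlerDifferential.range_mapBaseChange, LinearMap.mem_ker] at h1
      exact h1
    rw [this, map_zero, sub_zero]

theorem nonempty_equiv (h : Module.Injective C L ∨
      ∃ s : Ω[C⁄B] →ₗ[C] Ω[C⁄A], ∀ ω : Ω[C⁄B], KaehlerDifferential.map A B C C (s ω) = ω)
    (X Y : Ext B C L) (hX : X.IsTrivialOver A) (hY : Y.IsTrivialOver A)
    (χ : ↥(EGA41.imperfection A B C) →ₗ[C] L) (hXχ : X.IsCharHom A χ) (hYχ : Y.IsCharHom A χ) :
    Nonempty (X.Equiv Y) := by
  obtain ⟨s, hs⟩ := (isTrivialOver_iff X).1 hX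
  obtain ⟨t, ht⟩ := (isTrivialOver_iff Y).1 hY
  obtain ⟨ψ, hψ⟩ := exists_extend h (derLift (C := C) (secDer hs) - derLift (secDer ht)) (by
    intro z
    rw [LinearMap.sub_apply, ← (isCharHom_iff hs χ).1 hXχ z, ← (isCharHom_iff ht χ).1 hYχ z,
      sub_self])
  obtain ⟨e⟩ := nonempty_equiv_of_sub_eq (C := C) (secDer hs) (secDer ht)
    (ψ.compDer (KaehlerDifferential.D A C)) (by
      intro b
      have h1 := hψ ((1 : C) ⊗ₜ KaehlerDifferential.D A B b)
      rw [KaehlerDifferential.mapBaseChange_tmul, one_smul, KaehlerDifferential.map_D,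
        LinearMap.sub_apply, derLift_tmul_D, derLift_tmul_D, one_smul, one_smul] at h1
      exact h1.symm)
  exact ⟨((ofDerEquiv hs).symm.trans e).trans (ofDerEquiv ht)⟩

section
attribute [local instance] opModule isCentralScalar_opModule

lemma snd_algebraMap_ofDerivation (D : Derivation A B L) (b : B) :
    (isSec_ofDerivation (C := C) D).snd
      (algebraMap B (Exal.Ext.ofDerivation (C := C) D).E b) = D b := by
  rw [← incl_inj (Exal.Ext.ofDerivation (C := C) D),
      (isSec_ofDerivation (C := C) D).incl_snd, AlgHom.commutes]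
  change (TrivSqZeroExt.inl (algebraMap B C b) + TrivSqZeroExt.inr (D b) : TrivSqZeroExt C L) -
      TrivSqZeroExt.inl (algebraMap B C b) = TrivSqZeroExt.inr (D b)
  exact add_sub_cancel_left _ _

end

theorem exists_ext (h : Module.Injective C L ∨
      ∃ r : C ⊗[B] Ω[B⁄A] →ₗ[C] ↥(EGA41.imperfection A B C),
        ∀ z : ↥(EGA41.imperfection A B C), r z = z)
    (χ : ↥(EGA41.imperfection A B C) →ₗ[C] L) :
    ∃ X : Ext B C L, X.IsTrivialOver A ∧ X.IsCharHom A χ := by
  obtain ⟨φ, hφ⟩ : ∃ φ : C ⊗[B] Ω[B⁄A] →ₗ[C] L, ∀ z : ↥(EGA41.imperfection A B C),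
      φ (z : C ⊗[B] Ω[B⁄A]) = χ z := by
    rcases h with h | ⟨r, hr⟩
    · obtain ⟨φ, hφ⟩ := Module.Injective.out (self := h) (X := ↥(EGA41.imperfection A B C))
        (Y := C ⊗[B] Ω[B⁄A]) (EGA41.imperfection A B C).subtype
        (Submodule.subtype_injective _) χ
      exact ⟨φ, hφ⟩
    · exact ⟨χ ∘ₗ r, fun z => by rw [LinearMap.comp_apply, hr]⟩
  let D : Derivation A B L :=
    (φ.restrictScalars B ∘ₗ TensorProduct.mk B C Ω[B⁄A] 1).compDer (KaehlerDifferential.D A B)
  refine ⟨Exal.Ext.ofDerivation (C := C) D, isTrivialOver_ofDerivation D,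
    (isCharHom_iff (isSec_ofDerivation D) χ).2 fun z => ?_⟩
  rw [← hφ]
  have h1 : ∀ b, secDer (isSec_ofDerivation (C := C) D) b = D b := by
    intro b
    exact snd_algebraMap_ofDerivation D b
  have h2 : ∀ z : C ⊗[B] Ω[B⁄A], φ z =
      derLift (C := C) (secDer (isSec_ofDerivation (C := C) D)) z := by
    intro z
    induction z using tensor_induction with
    | hD c b =>
      rw [derLift_tmul_D, h1]
      change _ = c • φ ((1 : C) ⊗ₜ[B] KaehlerDifferential.D A B b)
      rw [← map_smul, TensorProduct.smul_tmul', smul_eq_mul, mul_one]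
    | h0 => simp
    | hadd x y hx hy => rw [map_add, map_add, hx, hy]
  exact h2 _

end Main

end K104.ExalE
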