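import Groth.Agent.EGA41.K104.ExalE
import Groth.Prelude.Def_Exal2

/-!
# The characteristic homomorphism of the infinitesimal extension of an ideal
-/

set_option autoImplicit false
set_option linter.unusedSectionVars false
universe u v w

open scoped TensorProduct

namespace K104.ExalF

open Exal Exal.Ext ExalA ExalB ExalD ExalE

theorem deltaL_injective' {A : Type u} {B C L : Type v} [CommRing A] [CommRing B] [CommRing C]
    [Algebra A B] [Algebra B C] [Algebra A C] [IsScalarTower A B C] [AddCommGroup L] [Module C L]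
    (X : Ext B C L) (hX : X.IsTrivialOver A) : Function.Injective (X.deltaL A) := by
  obtain ⟨s, hs⟩ := (isTrivialOver_iff X).1 hX
  let _ := modR C L A
  let _ := modR C L B
  have := tower₁ C L A
  have := tower₁ C L B
  have := tower₂ A B C L
  exact deltaL_injective hs

theorem bijective_charHom {A : Type u} {B : Type v} [CommRing A] [CommRing B] [Algebra A B]
    (K : Ideal B) (hK : (Exal.Ext.infinitesimal K).IsTrivialOver A)
    (χ : ↥(EGA41.imperfection A B (B ⧸ K)) →ₗ[B ⧸ K] K.Cotangent)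
    (hχ : (Exal.Ext.infinitesimal K).IsCharHom A χ) :
    Function.Bijective χ := by
  have hinj := deltaL_injective' (Exal.Ext.infinitesimal K) hK
  have htower : IsScalarTower A (B ⧸ K) K.Cotangent :=
    ⟨fun a c z => by
      obtain ⟨b, rfl⟩ := Ideal.Quotient.mk_surjective c
      have h1 : ∀ b : B, (Ideal.Quotient.mk K b) • z = b • z := fun b => algebraMap_smul (B ⧸ K) b z
      have h2 : a • (Ideal.Quotient.mk K b) = Ideal.Quotient.mk K (a • b) := rfl
      rw [h2, h1, h1, smul_assoc]⟩
  have hker : ∀ k : B, k ∈ K ↔ k ∈ RingHom.ker (algebraMap B (B ⧸ K)) := by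
    intro k
    rw [RingHom.mem_ker, Ideal.Quotient.algebraMap_eq, Ideal.Quotient.eq_zero_iff_mem]
  -- values on the generators
  have hval : ∀ (z : ↥(EGA41.imperfection A B (B ⧸ K))) (k : K),
      (z : (B ⧸ K) ⊗[B] Ω[B⁄A]) = 1 ⊗ₜ KaehlerDifferential.D A B (k : B) →
        χ z = K.toCotangent k := by
    intro z k hz
    apply hinj
    rw [hχ z, hz, baseChangeToMiddle_tmul_D]
    rfl
  have hex : ∀ z : ↥(EGA41.imperfection A B (B ⧸ K)), ∃ k : K,
      (z : (B ⧸ K) ⊗[B] Ω[B⁄A]) = 1 ⊗ₜ KaehlerDifferential.D A B (k : B) := by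
    intro z
    have h1 : (z : (B ⧸ K) ⊗[B] Ω[B⁄A]) ∈
        LinearMap.range (KaehlerDifferential.kerCotangentToTensor A B (B ⧸ K)) := by
      rw [KaehlerDifferential.range_kerCotangentToTensor A B (B ⧸ K)
        Ideal.Quotient.mk_surjective]
      exact z.2
    obtain ⟨w, hw⟩ := h1
    obtain ⟨k, rfl⟩ := Ideal.toCotangent_surjective _ w
    refine ⟨⟨k.1, (hker _).2 k.2⟩, ?_⟩
    rw [← hw, KaehlerDifferential.kerCotangentToTensor_toCotangent]
  constructor
  · rw [injective_iff_map_eq_zero]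
    intro z hz
    obtain ⟨k, hk⟩ := hex z
    rw [hval z k hk, Ideal.toCotangent_eq_zero] at hz
    apply Subtype.ext
    rw [hk]
    have h2 : Ideal.toCotangent (RingHom.ker (algebraMap B (B ⧸ K))) ⟨k.1, (hker _).1 k.2⟩ = 0 := by
      refine (Ideal.toCotangent_eq_zero _ _).2 ?_
      have h4 : K ≤ RingHom.ker (algebraMap B (B ⧸ K)) := fun x hx => (hker x).1 hx
      exact Ideal.pow_right_mono h4 2 hz
    have h3 := KaehlerDifferential.kerCotangentToTensor_toCotangent A B (B ⧸ K)
      ⟨k.1, (hker _).1 k.2⟩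
    rw [h2, map_zero] at h3
    exact h3.symm
  · intro w
    obtain ⟨k, rfl⟩ := K.toCotangent_surjective w
    refine ⟨⟨1 ⊗ₜ KaehlerDifferential.D A B (k : B), ?_⟩, hval _ k rfl⟩
    change KaehlerDifferential.mapBaseChange A B (B ⧸ K)
      (1 ⊗ₜ KaehlerDifferential.D A B (k : B)) = 0
    rw [KaehlerDifferential.mapBaseChange_tmul, one_smul, KaehlerDifferential.map_D,
      Ideal.Quotient.algebraMap_eq, Ideal.Quotient.eq_zero_iff_mem.2 k.2, map_zero]

end K104.ExalF
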