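import Mathlib.RingTheory.Flat.Basic
import Mathlib.LinearAlgebra.TensorProduct.RightExactness

/-!
# A short exact sequence with flat cokernel stays exact after tensoring
-/

set_option autoImplicit false
universe u v w

open TensorProduct

namespace K104.FlatCoker

variable {R : Type u} [CommRing R] {N₁ N₂ N₃ : Type*} [AddCommGroup N₁] [AddCommGroup N₂]
  [AddCommGroup N₃] [Module R N₁] [Module R N₂] [Module R N₃]

lemma rTensor_lTensor_apply {P Q : Type*} [AddCommGroup P] [AddCommGroup Q] [Module R P]
    [Module R Q] (p : P →ₗ[R] Q) (g : N₁ →ₗ[R] N₂) (x : P ⊗[R] N₁) :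
    p.rTensor N₂ (g.lTensor P x) = g.lTensor Q (p.rTensor N₁ x) := by
  rw [← LinearMap.comp_apply, ← LinearMap.comp_apply, LinearMap.rTensor_comp_lTensor,
    LinearMap.lTensor_comp_rTensor]

/-- A short exact sequence with flat cokernel stays injective after tensoring. -/
theorem lTensor_injective {g₁ : N₁ →ₗ[R] N₂} {g₂ : N₂ →ₗ[R] N₃} (h₁ : Function.Injective g₁)
    (h : Function.Exact g₁ g₂) (h₂ : Function.Surjective g₂) [Module.Flat R N₃]
    (Q : Type v) [AddCommGroup Q] [Module R Q] : Function.Injective (g₁.lTensor Q) := by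
  obtain ⟨P, _, _, _, p, hp⟩ : ∃ (P : Type (max u v)) (_ : AddCommGroup P) (_ : Module R P)
      (_ : Module.Free R P) (p : P →ₗ[R] Q), Function.Surjective p :=
    ⟨Q →₀ R, inferInstance, inferInstance, inferInstance,
      Finsupp.linearCombination R (id : Q → Q), fun q => ⟨Finsupp.single q 1, by simp⟩⟩
  let K := LinearMap.ker p
  let f : K →ₗ[R] P := K.subtype
  have e1 : Function.Injective (f.rTensor N₃) :=
    Module.Flat.rTensor_preserves_injective_linearMap _ (Submodule.subtype_injective _)
  have e2 : Function.Injective (g₁.lTensor P) :=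
    Module.Flat.lTensor_preserves_injective_linearMap _ h₁
  have e3 : Function.Exact f p := p.exact_subtype_ker_map
  rw [injective_iff_map_eq_zero]
  intro x hx
  obtain ⟨x', rfl⟩ := LinearMap.rTensor_surjective N₁ hp x
  have c1 : p.rTensor N₂ (g₁.lTensor P x') = 0 := by
    rw [← hx]
    exact rTensor_lTensor_apply p g₁ x'
  obtain ⟨y, hy⟩ := (rTensor_exact N₂ e3 hp _).mp c1
  have c2 : g₂.lTensor K y = 0 := by
    apply e1
    rw [map_zero, rTensor_lTensor_apply, hy, ← LinearMap.comp_apply, ← LinearMap.lTensor_comp,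
      h.linearMap_comp_eq_zero, LinearMap.lTensor_zero, LinearMap.zero_apply]
  obtain ⟨z, hz⟩ := (lTensor_exact K h h₂ _).mp c2
  have c3 : x' = f.rTensor N₁ z := by
    apply e2
    rw [← rTensor_lTensor_apply, hz, hy]
  rw [c3, ← LinearMap.comp_apply, ← LinearMap.rTensor_comp, e3.linearMap_comp_eq_zero,
    LinearMap.rTensor_zero, LinearMap.zero_apply]

end K104.FlatCoker
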