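import Groth.Agent.Sga2.RegExt

/-!
# `Ext^n(N, M) = Hom(N, M/(x)M)` for a weakly `M`-regular sequence killing `N`
-/

set_option autoImplicit false
universe u

open CategoryTheory Abelian Limits Pointwise

namespace K104.ReesIso

variable {A : Type u} [CommRing A]

open Groth.Agent.Sga2.RegExt

lemma comp_smul_eq_zero (N M : ModuleCat.{u} A) (x : A) (hN : x ∈ Module.annihilator A N) (n : ℕ)
    (y : Ext N M n) : y.comp (Ext.mk₀ (x • 𝟙 M)) (add_zero _) = 0 := by
  rw [← Ext.smul_eq_comp_mk₀]
  exact Groth.Agent.Localalg.Depth.ext_smul_eq_zero_of_mem_annihilator_left hN _ y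

theorem subsingleton_ext (N : ModuleCat.{u} A) (rs : List A) : ∀ (M : ModuleCat.{u} A),
    (∀ x ∈ rs, x ∈ Module.annihilator A N) → RingTheory.Sequence.IsWeaklyRegular M rs →
    ∀ i < rs.length, Subsingleton (Ext N M i) := by
  induction rs with
  | nil =>
    intro M _ _ i hi
    simp at hi
  | cons x rs ih =>
    intro M hN hreg i hi
    obtain ⟨hx, hreg'⟩ := (RingTheory.Sequence.isWeaklyRegular_cons_iff M x rs).1 hreg
    have hxN := hN x List.mem_cons_self
    cases i with
    | zero =>
      have : Subsingleton (N →ₗ[A] M) := by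
        refine subsingleton_of_forall_eq 0 fun f => ?_
        ext z
        refine hx.right_eq_zero_of_smul ?_
        rw [← map_smul, Module.mem_annihilator.1 hxN, map_zero]
      exact (Ext.addEquiv₀.trans ModuleCat.homAddEquiv).subsingleton
    | succ i =>
      have hsub : Subsingleton (Ext N (ModuleCat.of A (QuotSMulTop x M)) i) :=
        ih (ModuleCat.of A (QuotSMulTop x M)) (fun y hy => hN y (List.mem_cons_of_mem _ hy))
          hreg' i (by simpa using hi)
      refine subsingleton_of_forall_eq 0 fun y => ?_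
      obtain ⟨z, hz⟩ := Ext.covariant_sequence_exact₁ N hx.smulShortComplex_shortExact y
        (comp_smul_eq_zero N M x hxN (i + 1) y) rfl
      have hz0 : z = 0 := hsub.elim z 0
      rw [← hz, hz0, Ext.zero_comp]
      rfl

theorem ext_equiv (N : ModuleCat.{u} A) (rs : List A) : ∀ (M : ModuleCat.{u} A),
    (∀ x ∈ rs, x ∈ Module.annihilator A N) → RingTheory.Sequence.IsWeaklyRegular M rs →
    Nonempty (Ext N (ModuleCat.of A (M ⧸ (Ideal.ofList rs • (⊤ : Submodule A M)))) 0 ≃ₗ[A]
      Ext N M rs.length) := by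
  induction rs with
  | nil =>
    intro M _ _
    have e : (M ⧸ (Ideal.ofList ([] : List A) • (⊤ : Submodule A M))) ≃ₗ[A] M :=
      Submodule.quotEquivOfEqBot _ (by simp)
    exact ⟨extEquivRight N e.toModuleIso 0⟩
  | cons x rs ih =>
    intro M hN hreg
    have hreg' := (RingTheory.Sequence.isWeaklyRegular_cons_iff M x rs).1 hreg
    obtain ⟨e1⟩ := ih (ModuleCat.of A (QuotSMulTop x M))
      (fun y hy => hN y (List.mem_cons_of_mem _ hy)) hreg'.2
    obtain ⟨e2⟩ := ext_equiv_quotSMulTop N M x hreg'.1 (hN x List.mem_cons_self) rs.length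
      (subsingleton_ext N (x :: rs) M hN hreg _ (by simp))
    exact ⟨(extEquivRight N (Submodule.quotOfListConsSMulTopEquivQuotSMulTopInner M x
      rs).toModuleIso 0).trans (e1.trans e2)⟩

end K104.ReesIso
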