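import Groth.Agent.Ega4A.SuppTensor
import Groth.Agent.FibDim.K582.RingDim
import Groth.Agent.S0543
import Mathlib.RingTheory.AdicCompletion.AsTensorProduct
import Mathlib.RingTheory.AdicCompletion.LocalRing
import Mathlib.RingTheory.AdicCompletion.Completeness
import Mathlib.RingTheory.KrullDimension.Module

/-!
# Dimension of the completion of a finite module along an ideal contained in the radical
-/

set_option autoImplicit false
universe u

open TensorProduct

namespace K104.SemiCompl

/-- Dimension of a flat algebra with the same maximal ideals. -/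
theorem ringKrullDim_eq (R S : Type*) [CommRing R] [CommRing S] [IsNoetherianRing R]
    [IsNoetherianRing S]
    [Algebra R S] [Module.Flat R S]
    (h1 : ∀ n : Ideal S, n.IsMaximal → (n.comap (algebraMap R S)).IsMaximal ∧
      n = (n.comap (algebraMap R S)).map (algebraMap R S))
    (h2 : ∀ m : Ideal R, m.IsMaximal → ∃ n : Ideal S, n.IsMaximal ∧
      n.comap (algebraMap R S) = m) : ringKrullDim S = ringKrullDim R := by
  rcases subsingleton_or_nontrivial R with hR | hR
  · have hS : Subsingleton S := (algebraMap R S).codomain_trivial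
    rw [ringKrullDim_eq_bot_of_subsingleton, ringKrullDim_eq_bot_of_subsingleton]
  · have hS : Nontrivial S := by
      obtain ⟨m, hm⟩ := Ideal.exists_maximal R
      obtain ⟨n, hn, -⟩ := h2 m hm
      by_contra hS
      rw [not_nontrivial_iff_subsingleton] at hS
      exact hn.ne_top (Subsingleton.elim _ _)
    have key : ∀ n : Ideal S, n.IsMaximal → n.height = (n.comap (algebraMap R S)).height := by
      intro n hn
      obtain ⟨hm, hmap⟩ := h1 n hn
      have : n.LiesOver (n.comap (algebraMap R S)) := ⟨rfl⟩
      have h3 := Ideal.height_eq_height_add_of_liesOver_of_hasGoingDown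
        (n.comap (algebraMap R S)) n
      have h4 : n.map (Ideal.Quotient.mk ((n.comap (algebraMap R S)).map (algebraMap R S))) = ⊥ := by
        rw [← hmap, Ideal.map_quotient_self]
      have : Nontrivial (S ⧸ (n.comap (algebraMap R S)).map (algebraMap R S)) := by
        rw [← hmap]
        exact Ideal.Quotient.nontrivial_iff.2 hn.ne_top
      rw [h3, h4, Ideal.height_bot, add_zero]
    rw [← Ideal.sup_isMaximal_height_eq_ringKrullDim, ← Ideal.sup_isMaximal_height_eq_ringKrullDim,
      WithBot.coe_inj]
    apply le_antisymm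
    · refine iSup₂_le fun n hn => ?_
      rw [key n hn]
      exact le_iSup₂ (f := fun (I : Ideal R) (_ : I.IsMaximal) => I.height) _ (h1 n hn).1
    · refine iSup₂_le fun m hm => ?_
      obtain ⟨n, hn, rfl⟩ := h2 m hm
      rw [← key n hn]
      exact le_iSup₂ (f := fun (I : Ideal S) (_ : I.IsMaximal) => I.height) _ hn

variable {A : Type u} [CommRing A] [IsNoetherianRing A] (r : Ideal A)

/-- Every element of the completion is congruent to an element of the ring. -/
lemma exists_sub_mem (x : AdicCompletion r A) :
    ∃ a : A, x - algebraMap A (AdicCompletion r A) a ∈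
      r.map (algebraMap A (AdicCompletion r A)) := by
  obtain ⟨a, ha⟩ := Ideal.Quotient.mk_surjective (AdicCompletion.evalOneₐ r x)
  refine ⟨a, ?_⟩
  have hk := AdicCompletion.ker_evalOneₐ_eq_map (I := r) (IsNoetherian.noetherian r)
  have h1 : x - algebraMap A (AdicCompletion r A) a ∈
      RingHom.ker (AdicCompletion.evalOneₐ r).toRingHom := by
    rw [RingHom.mem_ker]
    change AdicCompletion.evalOneₐ r (x - algebraMap A (AdicCompletion r A) a) = 0
    rw [map_sub, ← ha, sub_eq_zero]
    have := (AdicCompletion.evalOneₐ r).commutes a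
    rw [this]
    rfl
  rw [hk] at h1
  exact h1

/-- The extended ideal lies in the radical. -/
lemma map_le_of_isMaximal (n : Ideal (AdicCompletion r A)) (hn : n.IsMaximal) :
    r.map (algebraMap A (AdicCompletion r A)) ≤ n := by
  have h1 : IsAdicComplete r (AdicCompletion r A) :=
    AdicCompletion.isAdicComplete (IsNoetherian.noetherian r)
  have h2 : IsAdicComplete (r.map (algebraMap A (AdicCompletion r A))) (AdicCompletion r A) :=
    (IsAdicComplete.map_algebraMap_iff _ _).mpr h1
  exact (IsAdicComplete.le_jacobson_bot _).trans (sInf_le ⟨bot_le, hn⟩)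

lemma comap_isMaximal (n : Ideal (AdicCompletion r A)) (hn : n.IsMaximal) :
    (n.comap (algebraMap A (AdicCompletion r A))).IsMaximal := by
  have hsurj : Function.Surjective ((Ideal.Quotient.mk n).comp
      (algebraMap A (AdicCompletion r A))) := by
    intro y
    obtain ⟨x, rfl⟩ := Ideal.Quotient.mk_surjective y
    obtain ⟨a, ha⟩ := exists_sub_mem r x
    refine ⟨a, ?_⟩
    rw [RingHom.comp_apply, eq_comm, ← sub_eq_zero, ← map_sub, Ideal.Quotient.eq_zero_iff_mem]
    exact map_le_of_isMaximal r n hn ha
  have h1 : n.comap (algebraMap A (AdicCompletion r A)) =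
      (⊥ : Ideal (AdicCompletion r A ⧸ n)).comap ((Ideal.Quotient.mk n).comp
      (algebraMap A (AdicCompletion r A))) := by
    rw [← Ideal.comap_comap, ← RingHom.ker_eq_comap_bot, Ideal.mk_ker]
  rw [h1]
  have : (⊥ : Ideal (AdicCompletion r A ⧸ n)).IsMaximal :=
    Ideal.bot_quotient_isMaximal_iff n |>.2 hn
  exact Ideal.comap_isMaximal_of_surjective _ hsurj

lemma eq_map_comap (n : Ideal (AdicCompletion r A))
    (hn : n.IsMaximal) :
    n = (n.comap (algebraMap A (AdicCompletion r A))).map
      (algebraMap A (AdicCompletion r A)) := by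
  apply le_antisymm
  · intro x hx
    obtain ⟨a, ha⟩ := exists_sub_mem r x
    have h1 : r ≤ n.comap (algebraMap A (AdicCompletion r A)) := by
      rw [← Ideal.map_le_iff_le_comap]
      exact map_le_of_isMaximal r n hn
    have h2 : a ∈ n.comap (algebraMap A (AdicCompletion r A)) := by
      rw [Ideal.mem_comap]
      have := n.sub_mem hx (map_le_of_isMaximal r n hn ha)
      rwa [sub_sub_cancel] at this
    have h3 := Ideal.add_mem _ (Ideal.map_mono h1 ha)
      (Ideal.mem_map_of_mem (algebraMap A (AdicCompletion r A)) h2)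
    rwa [sub_add_cancel] at h3
  · exact Ideal.map_comap_le

lemma exists_isMaximal (hr : r ≤ Ring.jacobson A) (m : Ideal A) (hm : m.IsMaximal) :
    ∃ n : Ideal (AdicCompletion r A), n.IsMaximal ∧
      n.comap (algebraMap A (AdicCompletion r A)) = m := by
  have hrm : r ≤ m := hr.trans (by
    rw [← Ideal.jacobson_bot]
    exact sInf_le ⟨bot_le, hm⟩)
  have hne : m.map (algebraMap A (AdicCompletion r A)) ≠ ⊤ := by
    intro h
    have h1 : m.map (algebraMap A (AdicCompletion r A)) ≤
        (m.map (Ideal.Quotient.mk r)).comap (AdicCompletion.evalOneₐ r) := by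
      rw [Ideal.map_le_iff_le_comap]
      intro a ha
      rw [Ideal.mem_comap, Ideal.mem_comap]
      rw [(AdicCompletion.evalOneₐ r).commutes a]
      exact Ideal.mem_map_of_mem (Ideal.Quotient.mk r) ha
    rw [h, top_le_iff, Ideal.comap_eq_top_iff] at h1
    have h2 := congrArg (Ideal.comap (Ideal.Quotient.mk r)) h1
    rw [Ideal.comap_map_of_surjective _ Ideal.Quotient.mk_surjective, Ideal.comap_top,
      ← RingHom.ker_eq_comap_bot, Ideal.mk_ker, sup_eq_left.2 hrm] at h2
    exact hm.ne_top h2
  obtain ⟨n, hn, hmn⟩ := Ideal.exists_le_maximal _ hne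
  refine ⟨n, hn, ?_⟩
  exact (hm.eq_of_le (comap_isMaximal r n hn).ne_top (Ideal.map_le_iff_le_comap.1 hmn)).symm

/-- The dimension of the completed quotient. -/
theorem ringKrullDim_quotient (hr : r ≤ Ring.jacobson A) (J : Ideal A) :
    ringKrullDim (AdicCompletion r A ⧸ J.map (algebraMap A (AdicCompletion r A))) =
      ringKrullDim (A ⧸ J) := by
  have hN : IsNoetherianRing (AdicCompletion r A) := Groth.Agent.S0543.result A r
  have hflat := K582.RingDim.flat_quotient A (AdicCompletion r A) J
  set B := AdicCompletion r A with hB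
  set φ := algebraMap A B with hφ
  have hcomm : ∀ a : A, algebraMap (A ⧸ J) (B ⧸ J.map φ) (Ideal.Quotient.mk J a) =
      Ideal.Quotient.mk (J.map φ) (φ a) := fun a => rfl
  -- comparison of the contractions
  have hcomap : ∀ n : Ideal (B ⧸ J.map φ),
      (n.comap (algebraMap (A ⧸ J) (B ⧸ J.map φ))).comap (Ideal.Quotient.mk J) =
        (n.comap (Ideal.Quotient.mk (J.map φ))).comap φ := by
    intro n
    rfl
  have hmapmk : ∀ n : Ideal (B ⧸ J.map φ),
      (n.comap (Ideal.Quotient.mk (J.map φ))).map (Ideal.Quotient.mk (J.map φ)) = n := fun n =>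
    Ideal.map_comap_of_surjective _ Ideal.Quotient.mk_surjective n
  have hmapmk' : ∀ n : Ideal (A ⧸ J),
      (n.comap (Ideal.Quotient.mk J)).map (Ideal.Quotient.mk J) = n := fun n =>
    Ideal.map_comap_of_surjective _ Ideal.Quotient.mk_surjective n
  refine ringKrullDim_eq (A ⧸ J) (B ⧸ J.map φ) (fun n' hn' => ?_) (fun m' hm' => ?_)
  · have hn : (n'.comap (Ideal.Quotient.mk (J.map φ))).IsMaximal :=
      Ideal.comap_isMaximal_of_surjective _ Ideal.Quotient.mk_surjective
    have h1 := comap_isMaximal r _ hn
    have h2 := eq_map_comap r _ hn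
    constructor
    · rw [← hmapmk' (n'.comap (algebraMap (A ⧸ J) (B ⧸ J.map φ))), hcomap]
      refine (Ideal.map_eq_top_or_isMaximal_of_surjective _ Ideal.Quotient.mk_surjective
        h1).resolve_left ?_
      rw [← hcomap, hmapmk']
      exact Ideal.comap_ne_top _ hn'.ne_top
    · conv_lhs => rw [← hmapmk n', h2]
      rw [← hcomap, Ideal.map_map]
      have h3 : (Ideal.Quotient.mk (J.map φ)).comp φ =
        (algebraMap (A ⧸ J) (B ⧸ J.map φ)).comp (Ideal.Quotient.mk J) := rfl
      rw [h3, ← Ideal.map_map, hmapmk']
  · have hm : (m'.comap (Ideal.Quotient.mk J)).IsMaximal :=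
      Ideal.comap_isMaximal_of_surjective _ Ideal.Quotient.mk_surjective
    obtain ⟨n, hn, hnm⟩ := exists_isMaximal r hr _ hm
    have hJn : J.map φ ≤ n := by
      rw [Ideal.map_le_iff_le_comap, hnm]
      intro a ha
      rw [Ideal.mem_comap, Ideal.Quotient.eq_zero_iff_mem.2 ha]
      exact Ideal.zero_mem _
    refine ⟨n.map (Ideal.Quotient.mk (J.map φ)), ?_, ?_⟩
    · refine (Ideal.map_eq_top_or_isMaximal_of_surjective _ Ideal.Quotient.mk_surjective
        hn).resolve_left ?_
      intro h
      have h2 := congrArg (Ideal.comap (Ideal.Quotient.mk (J.map φ))) h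
      rw [Ideal.comap_map_of_surjective _ Ideal.Quotient.mk_surjective, Ideal.comap_top,
        ← RingHom.ker_eq_comap_bot, Ideal.mk_ker, sup_eq_left.2 hJn] at h2
      exact hn.ne_top h2
    · have h4 : ((n.map (Ideal.Quotient.mk (J.map φ))).comap
          (algebraMap (A ⧸ J) (B ⧸ J.map φ))).comap (Ideal.Quotient.mk J) =
            m'.comap (Ideal.Quotient.mk J) := by
        rw [hcomap, Ideal.comap_map_of_surjective _ Ideal.Quotient.mk_surjective,
          ← RingHom.ker_eq_comap_bot, Ideal.mk_ker, sup_eq_left.2 hJn, hnm]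
      rw [← hmapmk' ((n.map (Ideal.Quotient.mk (J.map φ))).comap
          (algebraMap (A ⧸ J) (B ⧸ J.map φ))), h4, hmapmk']

/-- The dimension of the completion of a finite module along an ideal in the radical. -/
theorem supportDim_eq (hr : r ≤ Ring.jacobson A) (M : Type u) [AddCommGroup M] [Module A M]
    [Module.Finite A M] :
    Module.supportDim (AdicCompletion r A) (AdicCompletion r M) = Module.supportDim A M := by
  rw [← Module.supportDim_eq_of_equiv
    (AdicCompletion.ofTensorProductEquivOfFiniteNoetherian r M)]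
  rw [Module.supportDim_eq_ringKrullDim_quotient_annihilator (R := A),
    ← ringKrullDim_quotient r hr, ← Module.supportDim_quotient_eq_ringKrullDim]
  unfold Module.supportDim
  rw [Groth.Agent.Ega4A.SuppTensor.support_baseChange, Module.support_eq_zeroLocus (R := A) (M := M),
    Module.support_eq_zeroLocus (R := AdicCompletion r A), Ideal.annihilator_quotient]
  have : PrimeSpectrum.zeroLocus (((Module.annihilator A M).map
      (algebraMap A (AdicCompletion r A)) : Ideal (AdicCompletion r A)) :
        Set (AdicCompletion r A)) =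
      PrimeSpectrum.comap (algebraMap A (AdicCompletion r A)) ⁻¹'
        PrimeSpectrum.zeroLocus (Module.annihilator A M) := by
    rw [PrimeSpectrum.preimage_comap_zeroLocus, Ideal.map, PrimeSpectrum.zeroLocus_span]
  rw [this]

end K104.SemiCompl
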